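import Mathlib

/-!
# Etale local rings under base change
-/

set_option autoImplicit false
set_option backward.isDefEq.respectTransparency false

universe u

open TensorProduct

namespace Groth.Agent.H18Pur.Ram

attribute [local instance] Algebra.TensorProduct.rightAlgebra

/-- Flatness and formal unramifiedness at a prime survive base change at every prime over it. -/
theorem flat_unramified_baseChange {A : Type u} [CommRing A] (A' : Type u) [CommRing A'] [Algebra A A']
    {B : Type u} [CommRing B] [Algebra A B] (q : Ideal B) [q.IsPrime] [Module.Flat A (Localization.AtPrime q)]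
    [Algebra.FormallyUnramified A (Localization.AtPrime q)] (p : Ideal (A' ⊗[A] B)) [p.IsPrime]
    (hp : p.comap (Algebra.TensorProduct.includeRight : B →ₐ[A] A' ⊗[A] B).toRingHom = q) :
    Module.Flat A' (Localization.AtPrime p) ∧ Algebra.FormallyUnramified A' (Localization.AtPrime p) := by
  let Bq := Localization.AtPrime q
  let T := A' ⊗[A] B
  let T' := A' ⊗[A] Bq
  let ψ : T →ₐ[A'] T' := Algebra.TensorProduct.map (AlgHom.id A' A') (IsScalarTower.toAlgHom A B Bq)
  letI : Algebra T T' := ψ.toRingHom.toAlgebra
  haveI : IsScalarTower A' T T' := IsScalarTower.of_algebraMap_eq fun c => (ψ.commutes c).symm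
  letI : Algebra B T' := (Algebra.TensorProduct.includeRight.comp (IsScalarTower.toAlgHom A B Bq) : B →ₐ[A] T').toRingHom.toAlgebra
  haveI : IsScalarTower B Bq T' := IsScalarTower.of_algebraMap_eq fun _ => rfl
  haveI : IsScalarTower B T T' := IsScalarTower.of_algebraMap_eq fun b => by
    show (1 : A') ⊗ₜ[A] algebraMap B Bq b = ψ ((1 : A') ⊗ₜ[A] b)
    exact (Algebra.TensorProduct.map_tmul (AlgHom.id A' A') (IsScalarTower.toAlgHom A B Bq) (1 : A') b).symm
  haveI : IsScalarTower A T T' := IsScalarTower.to₁₃₄ A A' T T'
  haveI : IsScalarTower A Bq T' := IsScalarTower.of_algebraMap_eq fun a => by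
    show algebraMap A T' a = (1 : A') ⊗ₜ[A] algebraMap A Bq a
    exact (Algebra.TensorProduct.includeRight.commutes a).symm
  haveI hloc : IsLocalization (Algebra.algebraMapSubmonoid T q.primeCompl) T' := by
    rw [Algebra.isLocalization_iff_isPushout q.primeCompl Bq, Algebra.IsPushout.comm,
      ← Algebra.IsPushout.comp_iff (R := A) (S := B) (T := Bq) (R' := A') (S' := T) (T' := T')]
    infer_instance
  have hle : Algebra.algebraMapSubmonoid T q.primeCompl ≤ p.primeCompl := by
    rintro _ ⟨b, hb, rfl⟩ hbp
    exact hb (hp ▸ hbp)
  let f : T' →+* Localization.AtPrime p := IsLocalization.lift (M := Algebra.algebraMapSubmonoid T q.primeCompl)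
    (g := algebraMap T (Localization.AtPrime p)) fun y => IsLocalization.map_units (Localization.AtPrime p) (⟨y, hle y.2⟩ : p.primeCompl)
  letI : Algebra T' (Localization.AtPrime p) := f.toAlgebra
  haveI : IsScalarTower T T' (Localization.AtPrime p) := IsScalarTower.of_algebraMap_eq fun x =>
    (IsLocalization.lift_eq _ x).symm
  haveI : IsScalarTower A' T' (Localization.AtPrime p) := IsScalarTower.of_algebraMap_eq fun c => by
    show algebraMap A' (Localization.AtPrime p) c = f (algebraMap A' T' c)
    rw [IsScalarTower.algebraMap_apply A' T T', IsLocalization.lift_eq]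
    exact IsScalarTower.algebraMap_apply A' T _ c
  haveI : IsLocalization (p.primeCompl.map (algebraMap T T')) (Localization.AtPrime p) :=
    IsLocalization.isLocalization_of_submonoid_le T' _ (Algebra.algebraMapSubmonoid T q.primeCompl) p.primeCompl hle
  haveI : Module.Flat T' (Localization.AtPrime p) :=
    IsLocalization.flat _ (p.primeCompl.map (algebraMap T T'))
  haveI : Algebra.FormallyUnramified T' (Localization.AtPrime p) :=
    Algebra.FormallyUnramified.of_isLocalization (p.primeCompl.map (algebraMap T T'))
  exact ⟨Module.Flat.trans A' T' _, Algebra.FormallyUnramified.comp A' T' _⟩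

end Groth.Agent.H18Pur.Ram
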