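import Mathlib
import Groth.Agent.H4LC.Torsion
import Groth.Agent.H4Depth.IdealDepth
import Groth.Agent.H02CA.AuslanderBuchsbaum

/-!
# Connectedness of punctured spectra below the depth

If `M` is a module of projective dimension at most `depth E - 2` over a ring `R₀` mapping to a Noetherian
local ring `E`, killed by `I`, then the two-piece decompositions of `E ⊗ M` away from the closed point are
detected by the Ext classes of `0 → E/(a⊓b) → E/a × E/b → E/(a⊔b) → 0`, and those vanish.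
-/

set_option autoImplicit false
set_option backward.isDefEq.respectTransparency false

universe u

open CategoryTheory Opposite CategoryTheory.Abelian TensorProduct

namespace Groth.Agent.H18Pur.Ram

section Seq

variable {R : Type u} [CommRing R] (A B : Ideal R)

/-- `R/(A⊓B) → R/A × R/B → R/(A⊔B)`. -/
noncomputable def mvSeq : ShortComplex (ModuleCat.{u} R) :=
  ShortComplex.mk
    (ModuleCat.ofHom ((Submodule.factor (inf_le_left : A ⊓ B ≤ A)).prod (Submodule.factor (inf_le_right : A ⊓ B ≤ B))))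
    (ModuleCat.ofHom ((Submodule.factor (le_sup_left : A ≤ A ⊔ B)).comp (LinearMap.fst R _ _) -
      (Submodule.factor (le_sup_right : B ≤ A ⊔ B)).comp (LinearMap.snd R _ _)))
    (by
      apply ModuleCat.hom_ext
      ext x
      simp)

theorem mvSeq_shortExact : (mvSeq A B).ShortExact := by
  refine { exact := ?_, mono_f := ?_, epi_g := ?_ }
  · rw [ShortComplex.moduleCat_exact_iff]
    rintro ⟨x, y⟩ h
    obtain ⟨x, rfl⟩ := Submodule.Quotient.mk_surjective A x
    obtain ⟨y, rfl⟩ := Submodule.Quotient.mk_surjective B y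
    have h' : x - y ∈ A ⊔ B := by
      rw [← Submodule.Quotient.mk_eq_zero (A ⊔ B), Submodule.Quotient.mk_sub]
      exact h
    obtain ⟨a, ha, b, hb, hab⟩ := Submodule.mem_sup.mp h'
    refine ⟨Submodule.Quotient.mk (x - a), Prod.ext ?_ ?_⟩
    · show Submodule.Quotient.mk (x - a) = (Submodule.Quotient.mk x : R ⧸ A)
      rw [Submodule.Quotient.eq]; simpa using A.neg_mem ha
    · show Submodule.Quotient.mk (x - a) = (Submodule.Quotient.mk y : R ⧸ B)
      rw [Submodule.Quotient.eq]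
      have : x - a - y = b := by linear_combination -hab
      rwa [this]
  · refine (ModuleCat.mono_iff_injective _).mpr ?_
    refine (injective_iff_map_eq_zero ((Submodule.factor (inf_le_left : A ⊓ B ≤ A)).prod
      (Submodule.factor (inf_le_right : A ⊓ B ≤ B)))).mpr fun x hx => ?_
    obtain ⟨x, rfl⟩ := Submodule.Quotient.mk_surjective (A ⊓ B) x
    obtain ⟨h1, h2⟩ := Prod.ext_iff.mp hx
    exact (Submodule.Quotient.mk_eq_zero _).mpr
      ⟨(Submodule.Quotient.mk_eq_zero A).mp h1, (Submodule.Quotient.mk_eq_zero B).mp h2⟩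
  · refine (ModuleCat.epi_iff_surjective _).mpr fun x => ?_
    obtain ⟨x, rfl⟩ := Submodule.Quotient.mk_surjective (A ⊔ B) x
    refine ⟨(Submodule.Quotient.mk x, 0), ?_⟩
    show Submodule.Quotient.mk x - Submodule.factor (le_sup_right : B ≤ A ⊔ B) (0 : R ⧸ B) = _
    rw [map_zero, sub_zero]

end Seq

variable {E : Type u} [CommRing E]

/-- The composite of a class on `E/I^n` with the class of the Mayer–Vietoris sequence of `a^m`, `b^m`. -/
noncomputable def mvClass (I a b : Ideal E) (M : ModuleCat.{u} E) {i n m : ℕ} (h : a ^ m ⊓ b ^ m ≤ I ^ n)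
    (z : Ext ((H4LC.quotSys I).obj (op n)) M i) : Ext (mvSeq (a ^ m) (b ^ m)).X₃ M (i + 1) :=
  (mvSeq_shortExact (a ^ m) (b ^ m)).extClass.comp
    ((Ext.mk₀ (ModuleCat.ofHom (Submodule.factor h) :
      (mvSeq (a ^ m) (b ^ m)).X₁ ⟶ (H4LC.quotSys I).obj (op n))).comp z (zero_add i)) (Nat.add_comm 1 i)

/-- Every degree `i` class dies in the next degree after refining. -/
def Vanishes (I a b : Ideal E) (i : ℕ) (M : ModuleCat.{u} E) : Prop :=
  ∀ (n : ℕ) (z : Ext ((H4LC.quotSys I).obj (op n)) M i),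
    ∃ (m : ℕ) (h : a ^ m ⊓ b ^ m ≤ I ^ n), mvClass I a b M h z = 0

variable {I a b : Ideal E}

theorem mvClass_tr (M : ModuleCat.{u} E) {i n n' m : ℕ} (hn : n ≤ n') (h : a ^ m ⊓ b ^ m ≤ I ^ n')
    (z : Ext ((H4LC.quotSys I).obj (op n)) M i) :
    mvClass I a b M h ((Ext.mk₀ (H4LC.tr (H4LC.quotSys I) hn)).comp z (zero_add i)) =
      mvClass I a b M (h.trans (Ideal.pow_le_pow_right hn)) z := by
  unfold mvClass
  rw [Ext.mk₀_comp_mk₀_assoc]
  congr 4
  apply ModuleCat.hom_ext
  refine LinearMap.ext fun x => ?_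
  obtain ⟨x, rfl⟩ := Submodule.Quotient.mk_surjective _ x
  rfl

theorem mvClass_comp {M N : ModuleCat.{u} E} {i j k n m : ℕ} (h : a ^ m ⊓ b ^ m ≤ I ^ n)
    (z : Ext ((H4LC.quotSys I).obj (op n)) M i) (y : Ext M N j) (hk : i + j = k) :
    mvClass I a b N h (z.comp y hk) = (mvClass I a b M h z).comp y (by omega) := by
  unfold mvClass
  rw [← Ext.comp_assoc _ z y (zero_add i) hk (by omega), Ext.comp_assoc _ _ y (Nat.add_comm 1 i) (by omega) (by omega)]

variable [IsNoetherianRing E]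

theorem exists_inf_le_pow (hab : a ⊓ b ≤ I.radical) (n : ℕ) : ∃ m, a ^ m ⊓ b ^ m ≤ I ^ n := by
  obtain ⟨c, hc⟩ := Ideal.exists_pow_le_of_le_radical_of_fg hab (IsNoetherian.noetherian _)
  obtain ⟨k, hk⟩ := a.exists_pow_inf_eq_pow_smul (b ^ (c * n) : Ideal E)
  refine ⟨c * n + k, ?_⟩
  have h1 := hk (c * n + k) (Nat.le_add_left k _)
  simp only [smul_eq_mul, Ideal.mul_top, Nat.add_sub_cancel] at h1
  calc a ^ (c * n + k) ⊓ b ^ (c * n + k) ≤ a ^ (c * n + k) ⊓ b ^ (c * n) :=
        inf_le_inf_left _ (Ideal.pow_le_pow_right (Nat.le_add_right _ _))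
    _ = a ^ (c * n) * (a ^ k ⊓ b ^ (c * n)) := h1
    _ ≤ a ^ (c * n) * b ^ (c * n) := Ideal.mul_mono_right inf_le_right
    _ = ((a * b) ^ c) ^ n := by rw [← pow_mul, mul_pow]
    _ ≤ ((a ⊓ b) ^ c) ^ n := pow_le_pow_left' (pow_le_pow_left' Ideal.mul_le_inf c) n
    _ ≤ I ^ n := pow_le_pow_left' hc n

theorem exists_tr_eq_zero {Q : ModuleCat.{u} E} (hQ : LocCoh.IsPowerTorsion I Q) {i n : ℕ} (hi : 0 < i)
    (z : Ext ((H4LC.quotSys I).obj (op n)) Q i) :
    ∃ n', ∃ h : n ≤ n', (Ext.mk₀ (H4LC.tr (H4LC.quotSys I) h)).comp z (zero_add i) = 0 :=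
  (H4LC.ι_eq_zero_iff (H4LC.quotSys I) i Q z).mp
    (@Subsingleton.elim _ (H4LC.subsingleton_H_of_isPowerTorsion I i Q hQ hi) _ _)

variable [IsLocalRing E]

theorem subsingleton_ext_free (hn : ∀ p : Ideal E, p.IsPrime → a ⊔ b ≤ p → p = IsLocalRing.maximalIdeal E)
    (K : Type u) [AddCommGroup K] [Module E K] [Module.Free E K] [Module.Finite E K] {j : ℕ}
    (hj : (j : ℕ∞) < LocCoh.depth E E) (m : ℕ) :
    Subsingleton (Ext (mvSeq (a ^ m) (b ^ m)).X₃ (ModuleCat.of E K) j) := by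
  refine H4Depth.subsingleton_ext_of_lt_idealDepth (I := IsLocalRing.maximalIdeal E)
    (ModuleCat.of E (E ⧸ (a ^ m ⊔ b ^ m))) ?_ j (lt_of_lt_of_le hj ?_)
  · intro p hp
    have hp' : (a ^ m ⊔ b ^ m : Ideal E) ≤ p.asIdeal :=
      (H4Depth.support_quotient_eq (a ^ m ⊔ b ^ m : Ideal E)).le hp
    rcases Nat.eq_zero_or_pos m with rfl | hm
    · exact absurd (top_le_iff.mp (by simpa using hp')) p.isPrime.ne_top
    · show IsLocalRing.maximalIdeal E ≤ p.asIdeal
      exact (hn _ p.isPrime (sup_le (Ideal.IsPrime.le_of_pow_le (le_sup_left.trans hp'))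
        (Ideal.IsPrime.le_of_pow_le (le_sup_right.trans hp')))).ge
  · show LocCoh.depth E E ≤ LocCoh.depth E K
    rcases subsingleton_or_nontrivial K with h | h
    · rw [show LocCoh.depth E K = ⊤ from H4Depth.idealDepth_eq_top (Subsingleton.elim _ _)]
      exact le_top
    · let bK := Module.Free.chooseBasis E K
      haveI := bK.index_nonempty
      rw [H4Depth.depth_congr bK.equivFun, H02CA.AuslanderBuchsbaum.depth_pi]

variable {R₀ : Type u} [CommRing R₀] [IsNoetherianRing R₀] [Algebra R₀ E]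

/-- Main induction on the projective dimension. -/
theorem vanishes_tensor (hab : a ⊓ b ≤ I.radical)
    (hn : ∀ p : Ideal E, p.IsPrime → a ⊔ b ≤ p → p = IsLocalRing.maximalIdeal E)
    (J : Ideal R₀) (hJ : I = J.map (algebraMap R₀ E)) :
    ∀ (j : ℕ) (M : Type u) [AddCommGroup M] [Module R₀ M] [Module.Finite R₀ M]
      [HasProjectiveDimensionLT (ModuleCat.of R₀ M) (j + 1)],
      (∀ x ∈ J, ∃ (G : Type u) (_ : AddCommGroup G) (_ : Module R₀ G) (_ : Module.Projective R₀ G)
        (h : M →ₗ[R₀] G) (g : G →ₗ[R₀] M), ∀ y, g (h y) = x • y) →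
      ∀ i : ℕ, ((i + j + 2 : ℕ) : ℕ∞) ≤ LocCoh.depth E E →
        Vanishes I a b i (ModuleCat.of E (E ⊗[R₀] M)) := by
  intro j
  induction j with
  | zero =>
    intro M _ _ _ hM _ i hi n z
    haveI : Projective (ModuleCat.of R₀ M) :=
      projective_iff_hasProjectiveDimensionLT_one.mpr hM
    haveI : Module.Projective R₀ M := (IsProjective.iff_projective M).mpr inferInstance
    haveI : Module.Flat E (E ⊗[R₀] M) := inferInstance
    haveI : Module.FinitePresentation E (E ⊗[R₀] M) := Module.finitePresentation_of_finite E _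
    haveI : Module.Free E (E ⊗[R₀] M) := Module.free_of_flat_of_isLocalRing
    obtain ⟨m, hm⟩ := exists_inf_le_pow hab n
    refine ⟨m, hm, @Subsingleton.elim _ (subsingleton_ext_free hn _ ?_ m) _ _⟩
    exact lt_of_lt_of_le (by exact_mod_cast Nat.lt_succ_self (i + 1)) hi
  | succ j ih =>
    intro M _ _ _ hM hstab i hi
    classical
    obtain ⟨r, π, hπ⟩ := Module.Finite.exists_fin' R₀ M
    let F := Fin r → R₀
    let M' := LinearMap.ker π
    haveI : Module.Finite R₀ M' := Module.Finite.of_injective M'.subtype M'.subtype_injective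
    let T₀ : ShortComplex (ModuleCat.{u} R₀) :=
      ShortComplex.mk (ModuleCat.ofHom M'.subtype) (ModuleCat.ofHom π) (by ext x; exact x.2)
    have hT₀ : T₀.ShortExact := by
      refine { exact := ?_, mono_f := (ModuleCat.mono_iff_injective _).mpr M'.subtype_injective,
               epi_g := (ModuleCat.epi_iff_surjective _).mpr hπ }
      rw [ShortComplex.moduleCat_exact_iff]
      exact fun x hx => ⟨⟨x, hx⟩, rfl⟩
    haveI : Projective T₀.X₂ := (IsProjective.iff_projective F).mp inferInstance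
    haveI : HasProjectiveDimensionLT (ModuleCat.of R₀ M') (j + 1) :=
      (hT₀.hasProjectiveDimensionLT_X₃_iff j inferInstance).mp hM
    -- the syzygy module is again projective away from `J`
    have hfac : ∀ x ∈ J, ∃ φ : F →ₗ[R₀] M', ∀ y : M', φ (y : F) = x • y := by
      intro x hx
      obtain ⟨G, _, _, _, h, g, hgh⟩ := hstab x hx
      obtain ⟨gt, hgt⟩ := Module.projective_lifting_property π g hπ
      let ψ : F →ₗ[R₀] F := x • LinearMap.id - gt.comp (h.comp π)
      have hψ : ∀ y, ψ y ∈ M' := fun y => by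
        show π (x • y - gt (h (π y))) = 0
        rw [map_sub, map_smul, ← LinearMap.comp_apply π gt, hgt, hgh, sub_self]
      refine ⟨ψ.codRestrict M' hψ, fun y => Subtype.ext ?_⟩
      show x • (y : F) - gt (h (π (y : F))) = x • (y : F)
      rw [show π (y : F) = 0 from y.2, map_zero, map_zero, sub_zero]
    have ihM' := ih M' (fun x hx => by
      obtain ⟨φ, hφ⟩ := hfac x hx
      exact ⟨F, inferInstance, inferInstance, inferInstance, M'.subtype, φ, hφ⟩) (i + 1)
      (le_of_eq_of_le (by push_cast; ring) hi)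
    -- the two short exact sequences after tensoring
    let ι₁ : E ⊗[R₀] M' →ₗ[E] E ⊗[R₀] F := LinearMap.baseChange E M'.subtype
    let π₁ : E ⊗[R₀] F →ₗ[E] E ⊗[R₀] M := LinearMap.baseChange E π
    let Bm := LinearMap.range ι₁
    let Q := LinearMap.ker ι₁
    have hex : Function.Exact ι₁ π₁ :=
      lTensor_exact E (f := M'.subtype) (g := π) (fun x => ⟨fun hx => ⟨⟨x, hx⟩, rfl⟩, by rintro ⟨y, rfl⟩; exact y.2⟩) hπ
    have hzero : π₁.comp Bm.subtype = 0 := by
      refine LinearMap.ext fun x => ?_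
      obtain ⟨y, hy⟩ := x.2
      show π₁ (x : E ⊗[R₀] F) = 0
      rw [← hy]
      exact hex.apply_apply_eq_zero y
    let T₁ : ShortComplex (ModuleCat.{u} E) :=
      ShortComplex.mk (ModuleCat.ofHom (X := ↥Bm) (Y := E ⊗[R₀] F) Bm.subtype) (ModuleCat.ofHom π₁)
        (by rw [← ModuleCat.ofHom_comp, hzero]; rfl)
    have hT₁ : T₁.ShortExact := by
      refine { exact := ?_, mono_f := (ModuleCat.mono_iff_injective _).mpr Bm.subtype_injective,
               epi_g := (ModuleCat.epi_iff_surjective _).mpr (LinearMap.lTensor_surjective E hπ) }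
      rw [ShortComplex.moduleCat_exact_iff]
      exact fun x hx => ⟨⟨x, (hex x).mp hx⟩, rfl⟩
    let T₂ : ShortComplex (ModuleCat.{u} E) :=
      ShortComplex.mk (ModuleCat.ofHom (X := ↥Q) (Y := E ⊗[R₀] M') Q.subtype)
        (ModuleCat.ofHom (X := E ⊗[R₀] M') (Y := ↥Bm) ι₁.rangeRestrict)
        (ModuleCat.hom_ext (LinearMap.ext fun x => Subtype.ext x.2))
    have hT₂ : T₂.ShortExact := by
      refine { exact := ?_, mono_f := (ModuleCat.mono_iff_injective _).mpr Q.subtype_injective,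
               epi_g := (ModuleCat.epi_iff_surjective _).mpr ι₁.surjective_rangeRestrict }
      rw [ShortComplex.moduleCat_exact_iff]
      exact fun x hx => ⟨⟨x, congrArg Subtype.val hx⟩, rfl⟩
    have hQ : LocCoh.IsPowerTorsion I (ModuleCat.of E Q) := by
      intro q
      refine ⟨1, fun e he => ?_⟩
      rw [pow_one, hJ] at he
      have hmem : ∀ e ∈ J.map (algebraMap R₀ E), e • (q : E ⊗[R₀] M') = 0 := fun e he => by
        suffices J.map (algebraMap R₀ E) ≤ LinearMap.ker (LinearMap.toSpanSingleton E _ (q : E ⊗[R₀] M')) from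
          this he
        refine Ideal.map_le_iff_le_comap.mpr fun x hx => ?_
        obtain ⟨φ, hφ⟩ := hfac x hx
        show algebraMap R₀ E x • (q : E ⊗[R₀] M') = 0
        have hcomp : (LinearMap.baseChange E φ).comp ι₁ = algebraMap R₀ E x • LinearMap.id := by
          refine TensorProduct.AlgebraTensorModule.ext fun c y => ?_
          simp [ι₁, algebraMap_smul, smul_tmul']
          rw [smul_tmul]
          exact congrArg _ (hφ y)
        have := LinearMap.congr_fun hcomp (q : E ⊗[R₀] M')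
        rw [LinearMap.comp_apply, show ι₁ (q : E ⊗[R₀] M') = 0 from q.2, map_zero] at this
        exact this.symm
      exact Subtype.ext (hmem e he)
    have hB : Vanishes I a b (i + 1) (ModuleCat.of E Bm) := by
      intro n z
      obtain ⟨n', hn', hz⟩ := exists_tr_eq_zero hQ (Nat.succ_pos (i + 1)) (z.comp hT₂.extClass rfl)
      rw [← Ext.comp_assoc _ z hT₂.extClass (zero_add _) rfl (by omega)] at hz
      obtain ⟨x, hx⟩ := Ext.covariant_sequence_exact₃ _ hT₂ _ rfl hz
      obtain ⟨m, h, hm⟩ := ihM' n' x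
      refine ⟨m, h.trans (Ideal.pow_le_pow_right hn'), ?_⟩
      rw [← mvClass_tr _ hn' h, ← hx, mvClass_comp h x _ (add_zero _), hm, Ext.zero_comp]
    intro n z
    obtain ⟨m, h, hm⟩ := hB n (z.comp hT₁.extClass rfl)
    refine ⟨m, h, ?_⟩
    rw [mvClass_comp h z _ rfl] at hm
    obtain ⟨x, hx⟩ := Ext.covariant_sequence_exact₃ _ hT₁ _ rfl hm
    haveI : Module.Free E (E ⊗[R₀] F) := inferInstance
    rw [← hx, @Subsingleton.elim _ (subsingleton_ext_free hn (E ⊗[R₀] F) (j := i + 1) ?_ m) x 0, Ext.zero_comp]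
    exact lt_of_lt_of_le (by exact_mod_cast (show i + 1 < i + (j + 1) + 2 by omega)) hi

theorem le_radical_or_le_radical (hab : a ⊓ b ≤ I.radical)
    (hn : ∀ p : Ideal E, p.IsPrime → a ⊔ b ≤ p → p = IsLocalRing.maximalIdeal E)
    (J : Ideal R₀) (hJ : I = J.map (algebraMap R₀ E)) (hI : I ≠ ⊤)
    {N : ℕ} [HasProjectiveDimensionLT (ModuleCat.of R₀ (R₀ ⧸ J)) (N + 1)]
    (hN : ((N + 2 : ℕ) : ℕ∞) ≤ LocCoh.depth E E) :
    a ≤ I.radical ∨ b ≤ I.radical := by
  haveI : Nontrivial (E ⧸ I) := Ideal.Quotient.nontrivial_iff.mpr hI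
  have hV : Vanishes I a b 0 (ModuleCat.of E (E ⊗[R₀] (R₀ ⧸ J))) :=
    vanishes_tensor hab hn J hJ N (R₀ ⧸ J) (fun x hx => ⟨R₀, inferInstance, inferInstance, inferInstance,
      0, 0, fun y => by
        obtain ⟨y, rfl⟩ := Ideal.Quotient.mk_surjective y
        rw [LinearMap.zero_apply, show x • Ideal.Quotient.mk J y = Ideal.Quotient.mk J (x * y) from rfl,
          Ideal.Quotient.eq_zero_iff_mem.mpr (J.mul_mem_right y hx)]⟩) 0 (by simpa using hN)
  let e : E ⊗[R₀] (R₀ ⧸ J) ≃ₐ[E] E ⧸ I :=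
    (Algebra.TensorProduct.quotIdealMapEquivTensorQuot E J).symm.trans (Ideal.quotientEquivAlgOfEq E hJ.symm)
  let q : (H4LC.quotSys I).obj (op 1) ⟶ ModuleCat.of E (E ⊗[R₀] (R₀ ⧸ J)) :=
    H4LC.quotHom I (M := ModuleCat.of E (E ⊗[R₀] (R₀ ⧸ J))) (1 : E ⊗[R₀] (R₀ ⧸ J)) fun c hc => by
      apply e.injective
      rw [map_smul, map_one, map_zero, ← Algebra.algebraMap_eq_smul_one]
      exact Ideal.Quotient.eq_zero_iff_mem.mpr (by rwa [pow_one] at hc)
  obtain ⟨m, h, hm⟩ := hV 1 (Ext.mk₀ q)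
  simp only [mvClass, Ext.mk₀_comp_mk₀] at hm
  obtain ⟨x, hx⟩ := Ext.contravariant_sequence_exact₁ (mvSeq_shortExact (a ^ m) (b ^ m)) _ _ _ hm
  obtain ⟨g, rfl⟩ := (Ext.mk₀_bijective _ _).2 x
  rw [Ext.mk₀_comp_mk₀] at hx
  have hg := ConcreteCategory.congr_hom ((Ext.mk₀_bijective _ _).1 hx) (Submodule.Quotient.mk (1 : E) : E ⧸ (a ^ m ⊓ b ^ m : Ideal E))
  let g' : (E ⧸ (a ^ m : Ideal E)) × (E ⧸ (b ^ m : Ideal E)) →ₗ[E] E ⊗[R₀] (R₀ ⧸ J) := g.hom
  let u := e (g' (Submodule.Quotient.mk 1, 0))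
  let v := e (g' (0, Submodule.Quotient.mk 1))
  have huv : u + v = 1 := by
    show e (g' _) + e (g' _) = 1
    rw [← map_add, ← map_add, Prod.mk_add_mk, add_zero, zero_add]
    refine (congrArg e (?_ : g' (Submodule.Quotient.mk 1, Submodule.Quotient.mk 1) = 1)).trans (map_one e)
    exact hg.trans (one_smul E (1 : E ⊗[R₀] (R₀ ⧸ J)))
  haveI : IsLocalRing (E ⧸ I) := IsLocalRing.of_surjective' _ Ideal.Quotient.mk_surjective
  have key : ∀ (c : Ideal E) (w : (E ⧸ (a ^ m : Ideal E)) × (E ⧸ (b ^ m : Ideal E))),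
      (∀ y ∈ c ^ m, y • w = 0) → IsUnit (e (g' w)) → c ≤ I.radical := by
    intro c w hw hu
    rcases Nat.eq_zero_or_pos m with rfl | hmpos
    · exact absurd (top_le_iff.mp ((by simp : (⊤ : Ideal E) ≤ a ^ 0 ⊓ b ^ 0).trans h)) (by simpa [pow_one] using hI)
    refine fun y hy => ⟨m, ?_⟩
    have := congrArg e (show g' (y ^ m • w) = 0 by rw [hw _ (Ideal.pow_mem_pow hy m), map_zero])
    rw [map_smul, map_smul, map_zero, Algebra.smul_def, hu.mul_left_eq_zero] at this
    exact Ideal.Quotient.eq_zero_iff_mem.mp this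
  rcases IsLocalRing.isUnit_or_isUnit_of_add_one huv with hu | hu
  · refine Or.inl (key a _ (fun y hy => Prod.ext ?_ (smul_zero y)) hu)
    show y • (Submodule.Quotient.mk 1 : E ⧸ (a ^ m : Ideal E)) = 0
    rwa [← Submodule.Quotient.mk_smul, Submodule.Quotient.mk_eq_zero, smul_eq_mul, mul_one]
  · refine Or.inr (key b _ (fun y hy => Prod.ext (smul_zero y) ?_) hu)
    show y • (Submodule.Quotient.mk 1 : E ⧸ (b ^ m : Ideal E)) = 0
    rwa [← Submodule.Quotient.mk_smul, Submodule.Quotient.mk_eq_zero, smul_eq_mul, mul_one]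

end Groth.Agent.H18Pur.Ram
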