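import Mathlib

/-!
# Finiteness of field extensions with isolated diagonal; heights of rational maximal ideals
-/

set_option autoImplicit false

universe u v

open TensorProduct

namespace Groth.Agent.H18Pur.Ram

theorem finite_of_minimal_diagonal (k K : Type u) [Field k] [Field K] [Algebra k K] [Algebra.EssFiniteType k K]
    (h : RingHom.ker (Algebra.TensorProduct.lmul' k (S := K)) ∈ minimalPrimes (K ⊗[k] K)) :
    Module.Finite k K := by
  suffices Algebra.IsAlgebraic k K from Algebra.finite_of_essFiniteType_of_isAlgebraic
  by_contra hn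
  rw [Algebra.isAlgebraic_def] at hn
  push Not at hn
  obtain ⟨z, hz⟩ := hn
  let P := Polynomial k
  letI : Algebra P K := (Polynomial.aeval z : P →ₐ[k] K).toRingHom.toAlgebra
  haveI : IsScalarTower k P K := IsScalarTower.of_algebraMap_eq fun c => (Polynomial.aeval_C z c).symm
  have hinj : Function.Injective (algebraMap P K) := transcendental_iff_injective.mp hz
  haveI : FaithfulSMul P K := (faithfulSMul_iff_algebraMap_injective P K).mpr hinj
  haveI : Module.IsTorsionFree P K := inferInstance
  haveI : Module.Flat P K := inferInstance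
  -- multiplication by `X ⊗ 1 - 1 ⊗ z` is injective on `P ⊗ K ≅ K[X]`
  let e : P ⊗[k] K := (Polynomial.X : P) ⊗ₜ 1 - 1 ⊗ₜ z
  have he : Function.Injective (LinearMap.mulLeft P e) := by
    let φ := (Algebra.TensorProduct.comm k P K).trans
      ((polyEquivTensor k K).symm.restrictScalars k)
    have hφ : φ e = Polynomial.X - Polynomial.C z := by
      simp [e, φ]
      erw [polyEquivTensor_symm_apply_tmul_eq_smul, polyEquivTensor_symm_apply_tmul_eq_smul]
      simp [Algebra.smul_def]
    intro a b hab
    apply φ.injective
    have : φ e * φ a = φ e * φ b := by rw [← map_mul, ← map_mul]; exact congrArg φ hab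
    refine mul_left_cancel₀ ?_ this
    rw [hφ]
    exact Polynomial.X_sub_C_ne_zero z
  let d : K ⊗[k] K := z ⊗ₜ 1 - 1 ⊗ₜ z
  have hd : d ∈ nonZeroDivisors (K ⊗[k] K) := by
    have h1 := Module.Flat.lTensor_preserves_injective_linearMap (M := K) _ he
    let c := TensorProduct.AlgebraTensorModule.cancelBaseChange k P P K K
    have hcomm : ∀ w, c ((LinearMap.mulLeft P e).lTensor K w) = d * c w := by
      intro w
      induction w using TensorProduct.induction_on with
      | zero => simp
      | add x y hx hy => simp [map_add, hx, hy, mul_add]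
      | tmul x y =>
        induction y using TensorProduct.induction_on with
        | zero => simp
        | add y y' hy hy' => simp only [tmul_add, map_add, hy, hy', mul_add]
        | tmul p y =>
          simp only [LinearMap.lTensor_tmul, LinearMap.mulLeft_apply, e, sub_mul,
            Algebra.TensorProduct.tmul_mul_tmul, tmul_sub, map_sub, one_mul, c, d,
            TensorProduct.AlgebraTensorModule.cancelBaseChange_tmul, Algebra.smul_def, map_mul]
          rw [show algebraMap P K Polynomial.X = z from Polynomial.aeval_X z, mul_assoc]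
    refine mem_nonZeroDivisors_iff_right.mpr fun x hx => ?_
    obtain ⟨w, rfl⟩ := c.surjective x
    have : c ((LinearMap.mulLeft P e).lTensor K w) = c ((LinearMap.mulLeft P e).lTensor K 0) := by
      rw [hcomm, mul_comm, hx, map_zero, map_zero]
    rw [h1 (c.injective this), map_zero]
  refine Set.disjoint_left.mp (Ideal.disjoint_nonZeroDivisors_of_mem_minimalPrimes h) ?_ hd
  simp [d]

/-- A maximal ideal of `R[X_i]` over a maximal ideal of a Noetherian ring `R` has height `height + N`. -/
theorem height_eq_add : ∀ (N : ℕ) {R : Type u} [CommRing R] [IsNoetherianRing R]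
    (M : Ideal (MvPolynomial (Fin N) R)) [M.IsMaximal], (M.comap MvPolynomial.C).IsMaximal →
      M.height = (M.comap (MvPolynomial.C : R →+* MvPolynomial (Fin N) R)).height + N := by
  intro N
  induction N with
  | zero =>
    intro R _ _ M _ _
    let e : R ≃+* MvPolynomial (Fin 0) R := (MvPolynomial.isEmptyAlgEquiv R (Fin 0)).symm.toRingEquiv
    rw [Nat.cast_zero, add_zero, ← e.height_comap M]
    congr 1
  | succ N ih =>
    intro R _ _ M hM hm
    let e := (MvPolynomial.finSuccEquiv R N).toRingEquiv
    let M' : Ideal (Polynomial (MvPolynomial (Fin N) R)) := M.comap e.symm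
    haveI : M'.IsMaximal := Ideal.comap_isMaximal_of_surjective _ e.symm.surjective
    let p : Ideal (MvPolynomial (Fin N) R) := M'.comap Polynomial.C
    have he : e.symm.toRingHom.comp (Polynomial.C.comp MvPolynomial.C) = MvPolynomial.C := by
      refine RingHom.ext fun x => e.injective ?_
      show e (e.symm (Polynomial.C (MvPolynomial.C x))) = e (MvPolynomial.C x)
      rw [RingEquiv.apply_symm_apply]
      exact ((MvPolynomial.finSuccEquiv R N).commutes x).symm
    have hpR : p.comap MvPolynomial.C = M.comap MvPolynomial.C := by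
      rw [Ideal.comap_comap]
      show (M.comap e.symm.toRingHom).comap _ = _
      rw [Ideal.comap_comap, he]
    haveI : p.IsMaximal := by
      letI := Ideal.Quotient.field M
      let φ : MvPolynomial (Fin N) R →+* MvPolynomial (Fin (N + 1)) R ⧸ M :=
        (Ideal.Quotient.mk M).comp (e.symm.toRingHom.comp Polynomial.C)
      have hφC : φ.comp MvPolynomial.C = (Ideal.Quotient.mk M).comp MvPolynomial.C := by
        rw [← he]
        rfl
      haveI := hm
      letI := Ideal.Quotient.field (M.comap (MvPolynomial.C : R →+* MvPolynomial (Fin (N + 1)) R))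
      letI : Algebra (R ⧸ M.comap (MvPolynomial.C : R →+* MvPolynomial (Fin (N + 1)) R))
          (MvPolynomial (Fin (N + 1)) R ⧸ M) := (Ideal.quotientMap M MvPolynomial.C le_rfl).toAlgebra
      haveI : IsScalarTower R (R ⧸ M.comap (MvPolynomial.C : R →+* MvPolynomial (Fin (N + 1)) R))
          (MvPolynomial (Fin (N + 1)) R ⧸ M) := IsScalarTower.of_algebraMap_eq fun _ => rfl
      haveI : Algebra.FiniteType (R ⧸ M.comap (MvPolynomial.C : R →+* MvPolynomial (Fin (N + 1)) R))
          (MvPolynomial (Fin (N + 1)) R ⧸ M) := Algebra.FiniteType.of_restrictScalars_finiteType R _ _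
      haveI := finite_of_finite_type_of_isJacobsonRing
        (R ⧸ M.comap (MvPolynomial.C : R →+* MvPolynomial (Fin (N + 1)) R)) (MvPolynomial (Fin (N + 1)) R ⧸ M)
      haveI : Module.Finite R (MvPolynomial (Fin (N + 1)) R ⧸ M) :=
        Module.Finite.trans (R ⧸ M.comap (MvPolynomial.C : R →+* MvPolynomial (Fin (N + 1)) R)) _
      have hint : φ.IsIntegral := by
        refine RingHom.IsIntegral.tower_top MvPolynomial.C φ ?_
        rw [hφC]
        exact (Algebra.IsIntegral.isIntegral : ∀ y : MvPolynomial (Fin (N + 1)) R ⧸ M, IsIntegral R y)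
      have := Ideal.isMaximal_comap_of_isIntegral_of_isMaximal' φ hint ⊥
      rwa [show (⊥ : Ideal (MvPolynomial (Fin (N + 1)) R ⧸ M)).comap φ = p by
        rw [← RingHom.ker_eq_comap_bot, ← RingHom.comap_ker, Ideal.mk_ker, ← Ideal.comap_comap]; rfl] at this
    haveI : M'.LiesOver p := ⟨rfl⟩
    rw [← e.symm.height_comap M, Polynomial.height_eq_height_add_one p M', ih p (hpR ▸ hm), hpR, Nat.cast_succ, add_assoc]

end Groth.Agent.H18Pur.Ram
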