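import Mathlib
import Groth.Agent.H18Pur.Ram.Connected
import Groth.Agent.H18Pur.Ram.Field
import Groth.Agent.H8Props.FlatDepth
import Groth.Agent.H8Props.NormalLowDim
import Groth.Agent.H13CI.EFT
import Groth.Agent.H05EGA4.Regular
import Groth.Agent.H05EGA4.Equidim
import Groth.Agent.H06EGA9.CMAffineSpace
import Groth.Agent.H4LC.RegularPDBound

/-!
# A two-dimensional normal ring unramified on its punctured spectrum is quasi-finite over a regular ring
-/

set_option autoImplicit false
set_option backward.isDefEq.respectTransparency false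

universe u

open IsLocalRing TensorProduct CategoryTheory

namespace Groth.Agent.H18Pur.Ram

/-- If `T = E/I` is `B` up to square zero at a prime `p` and `B_q` is formally unramified over `A`, the kernel
of a retraction `ε : E → B` is `I` near `p`. -/
theorem map_le_of_unramified {A B E : Type u} [CommRing A] [CommRing B] [CommRing E] [Algebra A B]
    [Algebra B E] [Algebra A E] [IsScalarTower A B E] [IsNoetherianRing E]
    (ε : E →+* B) (hεB : ∀ b : B, ε (algebraMap B E b) = b) (I : Ideal E) (θ : B →ₐ[A] E ⧸ I)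
    (hI : I ≤ RingHom.ker ε) (hθ : ∀ (b : B) (e : E), θ b = Ideal.Quotient.mk I e → ε e = b)
    {N : ℕ} (ξ : Fin N → E) (x : Fin N → B) (hker : RingHom.ker ε = Ideal.span (Set.range fun i => ξ i - algebraMap B E (x i)))
    (hξ : ∀ i, θ (x i) = Ideal.Quotient.mk I (ξ i)) (hε : Function.Surjective ε)
    (p : Ideal E) [p.IsPrime] (hp : RingHom.ker ε ≤ p) (q : Ideal B) [q.IsPrime] (hq : q.comap ε = p)
    [Algebra.FormallyUnramified A (Localization.AtPrime q)] :
    ∃ s ∉ p, ∀ e ∈ RingHom.ker ε, s * e ∈ I := by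
  classical
  let a := RingHom.ker ε
  let Ep := Localization.AtPrime p
  let ap := a.map (algebraMap E Ep)
  let Ip := I.map (algebraMap E Ep)
  let Dp := Ep ⧸ (ap ^ 2 ⊔ Ip)
  have hIp : I.map (algebraMap E Ep) ≤ ap ^ 2 ⊔ Ip := le_sup_right
  let π : E →+* Dp := (Ideal.Quotient.mk _).comp (algebraMap E Ep)
  let c : B →ₐ[A] Dp := (IsScalarTower.toAlgHom A E Dp).comp (IsScalarTower.toAlgHom A B E)
  let θ' : B →ₐ[A] Dp := (Ideal.Quotient.liftₐ I (IsScalarTower.toAlgHom A E Dp) fun e he =>
    Ideal.Quotient.eq_zero_iff_mem.mpr (hIp (Ideal.mem_map_of_mem _ he))).comp θ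
  have hunit : ∀ f : B →ₐ[A] Dp, (∀ b, ∃ e : E, f b = π e ∧ ε e = b) → ∀ y : q.primeCompl, IsUnit (f (y : B)) := by
    intro f hf y
    obtain ⟨e, he, hey⟩ := hf (y : B)
    rw [he]
    refine (IsLocalization.map_units Ep (⟨e, fun h => y.2 ?_⟩ : p.primeCompl)).map (Ideal.Quotient.mk (ap ^ 2 ⊔ Ip))
    rw [← hq, SetLike.mem_coe, Ideal.mem_comap, hey] at h
    exact h
  have hc : ∀ b, ∃ e : E, c b = π e ∧ ε e = b := fun b => ⟨algebraMap B E b, rfl, hεB b⟩
  have hθ' : ∀ b, ∃ e : E, θ' b = π e ∧ ε e = b := fun b => by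
    obtain ⟨e, he⟩ := Ideal.Quotient.mk_surjective (θ b)
    refine ⟨e, ?_, hθ b e he.symm⟩
    exact (congrArg (Ideal.Quotient.liftₐ I (IsScalarTower.toAlgHom A E Dp) fun z hz =>
      Ideal.Quotient.eq_zero_iff_mem.mpr (hIp (Ideal.mem_map_of_mem _ hz))) he.symm).trans rfl
  let C : Localization.AtPrime q →ₐ[A] Dp := IsLocalization.liftAlgHom (M := q.primeCompl) (hunit c hc)
  let Θ : Localization.AtPrime q →ₐ[A] Dp := IsLocalization.liftAlgHom (M := q.primeCompl) (hunit θ' hθ')
  let aD : Ideal Dp := ap.map (Ideal.Quotient.mk _)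
  have haD : aD ^ 2 = ⊥ := by
    refine (Ideal.map_pow _ _ _).symm.trans ?_
    rw [eq_bot_iff, Ideal.map_le_iff_le_comap, ← RingHom.ker_eq_comap_bot, Ideal.mk_ker]
    exact le_sup_left
  have hCΘ : C = Θ := by
    refine Algebra.FormallyUnramified.comp_injective aD haD (AlgHom.coe_ringHom_injective ?_)
    refine IsLocalization.ringHom_ext q.primeCompl (RingHom.ext fun b => ?_)
    show Ideal.Quotient.mk aD (C (algebraMap B _ b)) = Ideal.Quotient.mk aD (Θ (algebraMap B _ b))
    rw [IsLocalization.liftAlgHom_apply, IsLocalization.liftAlgHom_apply, IsLocalization.lift_eq,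
      IsLocalization.lift_eq, Ideal.Quotient.eq]
    show c b - θ' b ∈ aD
    obtain ⟨e, he, heb⟩ := hc b
    obtain ⟨e', he', heb'⟩ := hθ' b
    rw [he, he', ← map_sub]
    exact Ideal.mem_map_of_mem _ (Ideal.mem_map_of_mem _ (RingHom.mem_ker.mpr (by rw [map_sub, heb, heb', sub_self])))
  have key : ap ≤ Ip := by
    refine Submodule.le_of_le_smul_of_le_jacobson_bot (I := ap) (IsNoetherian.noetherian _)
      ((le_maximalIdeal ?_).trans (maximalIdeal_le_jacobson _)) ?_
    · exact ne_top_of_le_ne_top (maximalIdeal.isMaximal Ep).ne_top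
        ((Ideal.map_mono hp).trans (IsLocalization.AtPrime.map_eq_maximalIdeal p Ep).le)
    · rw [smul_eq_mul, ← sq, sup_comm]
      show a.map _ ≤ _
      rw [show a = _ from hker, Ideal.map_span, Ideal.span_le]
      rintro _ ⟨_, ⟨i, rfl⟩, rfl⟩
      rw [SetLike.mem_coe, ← Ideal.Quotient.eq_zero_iff_mem, map_sub, map_sub, sub_eq_zero]
      have h := DFunLike.congr_fun hCΘ (algebraMap B (Localization.AtPrime q) (x i))
      rw [IsLocalization.liftAlgHom_apply, IsLocalization.liftAlgHom_apply, IsLocalization.lift_eq,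
        IsLocalization.lift_eq] at h
      refine Eq.trans ?_ h.symm
      exact (congrArg (Ideal.Quotient.liftₐ I (IsScalarTower.toAlgHom A E Dp) fun z hz =>
        Ideal.Quotient.eq_zero_iff_mem.mpr (hIp (Ideal.mem_map_of_mem _ hz))) (hξ i)).symm
  have hgen : ∀ i, ∃ s : E, s ∉ p ∧ s * (ξ i - algebraMap B E (x i)) ∈ I := fun i => by
    obtain ⟨s, hs, hsI⟩ := (IsLocalization.algebraMap_mem_map_algebraMap_iff p.primeCompl Ep I _).mp
      (key (Ideal.mem_map_of_mem (algebraMap E Ep) (hker.ge (Ideal.subset_span (Set.mem_range_self i)))))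
    exact ⟨s, hs, hsI⟩
  choose s hs hsI using hgen
  refine ⟨∏ i, s i, fun h => ?_, ?_⟩
  · obtain ⟨i, -, hi⟩ := (Ideal.IsPrime.prod_mem_iff).mp h
    exact hs i hi
  · suffices RingHom.ker ε ≤ LinearMap.ker ((Ideal.Quotient.mkₐ E I).toLinearMap.comp (LinearMap.mulLeft E (∏ i, s i))) from
      fun e he => Ideal.Quotient.eq_zero_iff_mem.mp (this he)
    rw [hker, Ideal.span_le]
    rintro _ ⟨i, rfl⟩
    refine Ideal.Quotient.eq_zero_iff_mem.mpr ?_
    show (∏ j, s j) * (ξ i - algebraMap B E (x i)) ∈ I
    obtain ⟨r, hr⟩ := Finset.dvd_prod_of_mem s (Finset.mem_univ i)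
    rw [hr, mul_comm (s i), mul_assoc]
    exact I.mul_mem_left _ (hsI i)

theorem ker_eval_eq_span {B : Type u} [CommRing B] {N : ℕ} (x : Fin N → B) :
    RingHom.ker (MvPolynomial.eval x) = Ideal.span (Set.range fun i => MvPolynomial.X i - MvPolynomial.C (x i)) := by
  set K := Ideal.span (Set.range fun i => MvPolynomial.X i - MvPolynomial.C (x i))
  refine le_antisymm (fun f hf => ?_) (Ideal.span_le.mpr ?_)
  · have : (Ideal.Quotient.mk K).comp (MvPolynomial.C.comp (MvPolynomial.eval x)) = Ideal.Quotient.mk K := by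
      refine MvPolynomial.ringHom_ext (fun b => by simp) fun i => ?_
      show Ideal.Quotient.mk K (MvPolynomial.C (MvPolynomial.eval x (MvPolynomial.X i))) = _
      rw [MvPolynomial.eval_X, eq_comm, Ideal.Quotient.eq]
      exact Ideal.subset_span ⟨i, rfl⟩
    rw [← Ideal.Quotient.eq_zero_iff_mem, ← RingHom.congr_fun this f]
    simp [RingHom.mem_ker.mp hf]
  · rintro _ ⟨i, rfl⟩
    simp

theorem height_ker_aeval {A : Type u} [CommRing A] [IsDomain A] [IsNoetherianRing A] {L : Type u} [Field L]
    [Algebra A L] (K : Type u) [Field K] [Algebra A K] [IsFractionRing A K] [Algebra K L] [IsScalarTower A K L]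
    [Algebra.IsAlgebraic K L] {N : ℕ} (x : Fin N → L) :
    (RingHom.ker (MvPolynomial.aeval (R := A) x)).height = N := by
  letI : Algebra (MvPolynomial (Fin N) A) (MvPolynomial (Fin N) K) := MvPolynomial.algebraMvPolynomial
  let T := Submonoid.map (MvPolynomial.C : A →+* MvPolynomial (Fin N) A) (nonZeroDivisors A)
  haveI : IsLocalization T (MvPolynomial (Fin N) K) := MvPolynomial.isLocalization (nonZeroDivisors A) K
  let ψ : MvPolynomial (Fin N) K →ₐ[K] L := MvPolynomial.aeval x
  let M : Ideal (MvPolynomial (Fin N) K) := RingHom.ker ψ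
  haveI : M.IsMaximal := by
    have hf : IsField ψ.range := Subalgebra.isField_of_algebraic ψ.range
    exact Ideal.Quotient.maximal_of_isField _ ((Ideal.quotientKerEquivRange ψ).toMulEquiv.isField hf)
  have hM : M.under (MvPolynomial (Fin N) A) = RingHom.ker (MvPolynomial.aeval (R := A) x) := by
    have : ψ.toRingHom.comp (algebraMap (MvPolynomial (Fin N) A) (MvPolynomial (Fin N) K)) =
        (MvPolynomial.aeval (R := A) x).toRingHom := by
      refine MvPolynomial.ringHom_ext (fun a => ?_) fun i => ?_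
      · show ψ (MvPolynomial.map (algebraMap A K) (MvPolynomial.C a)) = MvPolynomial.aeval x (MvPolynomial.C a)
        rw [MvPolynomial.map_C, MvPolynomial.aeval_C, MvPolynomial.aeval_C, ← IsScalarTower.algebraMap_apply]
      · show ψ (MvPolynomial.map (algebraMap A K) (MvPolynomial.X i)) = MvPolynomial.aeval x (MvPolynomial.X i)
        rw [MvPolynomial.map_X, MvPolynomial.aeval_X, MvPolynomial.aeval_X]
    ext f
    show ψ (algebraMap _ _ f) = 0 ↔ MvPolynomial.aeval x f = 0
    exact Eq.congr_left (RingHom.congr_fun this f)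
  have hMC : M.comap (MvPolynomial.C : K →+* MvPolynomial (Fin N) K) = ⊥ := Ideal.eq_bot_of_prime _
  rw [← hM, IsLocalization.height_under T M, height_eq_add N M (by rw [hMC]; exact Ideal.bot_isMaximal), hMC,
    Ideal.height_bot, zero_add]

theorem finite_residueField_of_dim_two {A B : Type u} [CommRing A] [IsRegularLocalRing A] [CommRing B]
    [IsLocalRing B] [IsDomain B] [IsIntegrallyClosed B] [Algebra A B] [IsLocalHom (algebraMap A B)]
    [Algebra.EssFiniteType A B] (hinj : Function.Injective (algebraMap A B)) (hdim : ringKrullDim B = 2)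
    (hunr : ∀ (Q : Ideal B) [Q.IsPrime], Q ≠ maximalIdeal B →
      Algebra.FormallyUnramified A (Localization.AtPrime Q)) :
    Module.Finite (ResidueField A) (ResidueField B) := by
  classical
  haveI : IsDomain A := H4Depth.isDomain_of_isRegularLocalRing A
  haveI : IsNoetherianRing B := Algebra.EssFiniteType.isNoetherianRing A B
  have hbot : maximalIdeal B ≠ ⊥ := fun h0 => by
    rw [ringKrullDim_eq_zero_of_isField (isField_iff_maximalIdeal_eq.mpr h0)] at hdim
    exact absurd hdim (by decide)
  -- presentation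
  obtain ⟨N, π, hπ⟩ := Algebra.FiniteType.iff_quotient_mvPolynomial''.mp
    (inferInstance : Algebra.FiniteType A (Algebra.EssFiniteType.subalgebra A B))
  let S0 := MvPolynomial (Fin N) A
  let g0 : S0 →ₐ[A] B := (Algebra.EssFiniteType.subalgebra A B).val.comp π
  let xs : Fin N → B := fun i => g0 (MvPolynomial.X i)
  let P : Ideal S0 := (maximalIdeal B).comap g0.toRingHom
  haveI : P.IsPrime := Ideal.IsPrime.comap _
  haveI : IsRegularRing A := H05EGA4.isRegularRing_of_isRegularLocalRing A
  let R₀ := Localization.AtPrime P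
  haveI : IsRegularLocalRing R₀ := IsRegularRing.isRegularLocalRing_localization P
  have hP : ∀ y : P.primeCompl, IsUnit (g0.toRingHom (y : S0)) := fun y =>
    not_not.mp fun h => y.2 ((mem_maximalIdeal _).mpr h)
  let g : R₀ →+* B := IsLocalization.lift (M := P.primeCompl) hP
  have hg : Function.Surjective g := by
    intro b
    obtain ⟨⟨x, y, hy⟩, hxy⟩ := IsLocalization.surj (Algebra.EssFiniteType.submonoid A B) b
    obtain ⟨X, rfl⟩ := hπ x
    obtain ⟨Y, rfl⟩ := hπ y
    have hYu : IsUnit (g0 Y) := hy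
    refine ⟨IsLocalization.mk' _ X (⟨Y, fun h => (mem_maximalIdeal _).mp h hYu⟩ : P.primeCompl), ?_⟩
    rw [IsLocalization.lift_mk'_spec]
    exact hxy.symm.trans (mul_comm b _)
  letI : Algebra R₀ B := g.toAlgebra
  let J : Ideal R₀ := RingHom.ker g
  haveI : J.IsPrime := RingHom.ker_isPrime g
  have hJcomap : J.comap (algebraMap S0 R₀) = RingHom.ker g0.toRingHom := by
    ext f
    show g (algebraMap S0 R₀ f) = 0 ↔ _
    rw [IsLocalization.lift_eq]
    rfl
  haveI : (RingHom.ker g0.toRingHom).IsPrime := RingHom.ker_isPrime _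
  -- height of the kernel
  have hJN : J.height = N := by
    rw [← IsLocalization.height_comap P.primeCompl J, Ideal.under, hJcomap]
    let K := FractionRing A
    let L := FractionRing B
    haveI : FaithfulSMul A L := (faithfulSMul_iff_algebraMap_injective A L).mpr
      (by rw [IsScalarTower.algebraMap_eq A B L]; exact (IsFractionRing.injective B L).comp hinj)
    letI : Algebra K L := FractionRing.liftAlgebra A L
    haveI : IsScalarTower A K L := inferInstance
    haveI : Algebra.FormallyUnramified A L := by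
      haveI := hunr ⊥ (Ne.symm hbot)
      haveI : IsFractionRing B (Localization.AtPrime (⊥ : Ideal B)) := by
        have : (⊥ : Ideal B).primeCompl = nonZeroDivisors B := by
          ext z
          rw [Ideal.mem_primeCompl_iff, mem_nonZeroDivisors_iff_ne_zero, Submodule.mem_bot]
        show IsLocalization (nonZeroDivisors B) _
        rw [← this]; infer_instance
      exact Algebra.FormallyUnramified.of_equiv
        ((IsLocalization.algEquiv (nonZeroDivisors B) (Localization.AtPrime (⊥ : Ideal B)) L).restrictScalars A)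
    haveI : Algebra.EssFiniteType A L :=
      haveI : Algebra.EssFiniteType B L := Algebra.EssFiniteType.of_isLocalization _ (nonZeroDivisors B)
      Algebra.EssFiniteType.comp A B L
    haveI : Algebra.EssFiniteType K L := Algebra.EssFiniteType.of_comp A K L
    haveI : Algebra.FormallyUnramified K L := Algebra.FormallyUnramified.of_restrictScalars A K L
    haveI : Module.Finite K L := Algebra.FormallyUnramified.finite_of_free K L
    haveI : Algebra.IsAlgebraic K L := inferInstance
    have hker : RingHom.ker g0.toRingHom = RingHom.ker (MvPolynomial.aeval (R := A) fun i => algebraMap B L (xs i)) := by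
      have : (MvPolynomial.aeval (R := A) fun i => algebraMap B L (xs i)) = (IsScalarTower.toAlgHom A B L).comp g0 :=
        MvPolynomial.algHom_ext fun i => by simp [xs, S0]
      ext f
      rw [RingHom.mem_ker, RingHom.mem_ker, this]
      exact (map_eq_zero_iff _ (IsFractionRing.injective B L)).symm
    rw [hker]
    exact height_ker_aeval K _
  -- dimension and projective dimension
  haveI hCM₀ := H06EGA9.isCohenMacaulayLocalRing_of_isRegularLocalRing R₀
  let eB : (R₀ ⧸ J) ≃+* B := RingHom.quotientKerEquivOfSurjective hg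
  have hdimR : ringKrullDim R₀ = ((N + 2 : ℕ) : WithBot ℕ∞) := by
    rw [← H05EGA4.height_add_dim_eq_of_isCohenMacaulay R₀ J, hJN, ringKrullDim_eq_of_ringEquiv eB, hdim]
    rfl
  have hdepR : LocCoh.depth R₀ R₀ = ((N + 2 : ℕ) : ℕ∞) := by
    have := hCM₀.supportDim_eq_depth
    rw [Module.supportDim_self_eq_ringKrullDim, hdimR] at this
    exact (WithBot.coe_injective this).symm
  have hdepB : LocCoh.depth B B = 2 := by
    refine le_antisymm ?_ (H8Props.NormalLowDim.two_le_depth B (by rw [hdim]; decide))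
    have := (H4Depth.depth_le_supportDim (R := B) (M := B)).trans (Module.supportDim_le_ringKrullDim B B)
    rw [hdim] at this
    exact WithBot.coe_le_coe.mp this
  haveI : Nontrivial (R₀ ⧸ J) := eB.toEquiv.nontrivial
  haveI hpd : HasProjectiveDimensionLT (ModuleCat.of R₀ (R₀ ⧸ J)) (N + 1) := by
    obtain ⟨d, -, hk⟩ := H05EGA4.exists_pd_residueField R₀
    haveI := H05EGA4.hasProjectiveDimensionLT_of_residueField d hk (ModuleCat.of R₀ (R₀ ⧸ J))
    have hne : projectiveDimension (ModuleCat.of R₀ (R₀ ⧸ J)) ≠ ⊤ :=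
      projectiveDimension_ne_top_iff _ |>.mpr ⟨_, this⟩
    obtain ⟨e, he⟩ := H02CA.AuslanderBuchsbaum.exists_pd_eq (R₀ ⧸ J) hne
    obtain ⟨h1, h2⟩ := H02CA.AuslanderBuchsbaum.pd_bounds_of_eq he
    have h := H02CA.AuslanderBuchsbaum.depth_eq_add e (R₀ ⧸ J) h1 h2
    have eL : (R₀ ⧸ J) ≃ₗ[R₀] B := (Ideal.quotientKerAlgEquivOfSurjective
        (f := Algebra.ofId R₀ B) hg).toLinearEquiv
    rw [hdepR, H4Depth.depth_congr eL, ← H8Props.FlatDepth.depth_eq_of_surjective (R := R₀) (S := B) hg, hdepB] at h
    obtain rfl : e = N := by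
      have : N + 2 = e + 2 := by exact_mod_cast h
      omega
    exact h1
  -- the diagonal localization of `B[X]`
  let S1 := MvPolynomial (Fin N) B
  let ev : S1 →+* B := MvPolynomial.eval xs
  have hevC : ∀ b, ev (MvPolynomial.C b) = b := fun b => MvPolynomial.eval_C b
  let n : Ideal S1 := (maximalIdeal B).comap ev
  haveI : n.IsMaximal := Ideal.comap_isMaximal_of_surjective ev fun b => ⟨_, hevC b⟩
  have hnB : n.comap (MvPolynomial.C : B →+* S1) = maximalIdeal B := by
    ext b
    show ev (MvPolynomial.C b) ∈ maximalIdeal B ↔ _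
    rw [hevC]
  let E := Localization.AtPrime n
  have hε : ∀ y : n.primeCompl, IsUnit (ev (y : S1)) := fun y =>
    not_not.mp fun h => y.2 ((mem_maximalIdeal _).mpr h)
  let ε : E →+* B := IsLocalization.lift (M := n.primeCompl) hε
  have hεB : ∀ b : B, ε (algebraMap B E b) = b := fun b => by
    rw [IsScalarTower.algebraMap_apply B S1 E, IsLocalization.lift_eq]
    exact hevC b
  have hεs : Function.Surjective ε := fun b => ⟨_, hεB b⟩
  let ψ : S0 →+* S1 := MvPolynomial.map (algebraMap A B)
  have hψ : ev.comp ψ = g0.toRingHom := by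
    refine MvPolynomial.ringHom_ext (fun a => ?_) fun i => ?_
    · show ev (MvPolynomial.map (algebraMap A B) (MvPolynomial.C a)) = g0 (MvPolynomial.C a)
      rw [MvPolynomial.map_C, hevC]
      exact (g0.commutes a).symm
    · show ev (MvPolynomial.map (algebraMap A B) (MvPolynomial.X i)) = g0 (MvPolynomial.X i)
      rw [MvPolynomial.map_X]
      exact MvPolynomial.eval_X i
  have hPn : P = n.comap ψ := by
    rw [Ideal.comap_comap, hψ]
  letI : Algebra R₀ E := (Localization.localRingHom P n ψ hPn).toAlgebra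
  have hR₀E : ∀ f : S0, algebraMap R₀ E (algebraMap S0 R₀ f) = algebraMap S1 E (ψ f) := fun f =>
    Localization.localRingHom_to_map P n ψ hPn f
  have hεg : ε.comp (algebraMap R₀ E) = g := by
    refine IsLocalization.ringHom_ext P.primeCompl (RingHom.ext fun f => ?_)
    show ε (algebraMap R₀ E (algebraMap S0 R₀ f)) = g (algebraMap S0 R₀ f)
    rw [hR₀E, IsLocalization.lift_eq, IsLocalization.lift_eq]
    exact RingHom.congr_fun hψ f
  haveI : IsLocalHom (algebraMap B E) := ⟨fun b hb => hεB b ▸ hb.map ε⟩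
  haveI : Module.Flat S1 E := IsLocalization.flat E n.primeCompl
  haveI : Module.Flat B E := Module.Flat.trans B S1 E
  have hfib : ((maximalIdeal B).map MvPolynomial.C).map (algebraMap S1 E) = (maximalIdeal B).map (algebraMap B E) := by
    rw [Ideal.map_map]
    rfl
  haveI hFreg : IsRegularLocalRing (E ⧸ (maximalIdeal B).map (algebraMap B E)) := by
    rw [← hfib]
    exact H13CI.isRegularLocalRing_fibre n (Ideal.map_le_iff_le_comap.mpr hnB.ge)
  haveI hFCM := H06EGA9.isCohenMacaulayLocalRing_of_isRegularLocalRing (E ⧸ (maximalIdeal B).map (algebraMap B E))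
  have hdimE : ringKrullDim E = ((2 + N : ℕ) : WithBot ℕ∞) := by
    rw [IsLocalization.AtPrime.ringKrullDim_eq_height n E, height_eq_add N n (hnB ▸ maximalIdeal.isMaximal B), hnB]
    rw [WithBot.coe_add, maximalIdeal_height_eq_ringKrullDim, hdim]
    rfl
  have hdepE : ((N + 2 : ℕ) : ℕ∞) ≤ LocCoh.depth E E := by
    have h := H8Props.FlatDepth.ringKrullDim_eq_add B E
    have h' := hFCM.supportDim_eq_depth
    rw [Module.supportDim_self_eq_ringKrullDim] at h'
    rw [hdimE, hdim, h'] at h
    rw [H8Props.FlatDepth.depth_eq_add B E, hdepB]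
    have h'' : ((2 + N : ℕ) : ℕ∞) = 2 + LocCoh.depth (E ⧸ (maximalIdeal B).map (algebraMap B E))
        (E ⧸ (maximalIdeal B).map (algebraMap B E)) := WithBot.coe_injective h
    rw [Nat.add_comm N 2, h'']
  -- the two ideals
  let I : Ideal E := J.map (algebraMap R₀ E)
  let a : Ideal E := RingHom.ker ε
  haveI : a.IsPrime := RingHom.ker_isPrime ε
  have hIa : I ≤ a := Ideal.map_le_iff_le_comap.mpr fun r hr => by
    show ε (algebraMap R₀ E r) = 0
    exact (RingHom.congr_fun hεg r).trans hr
  have hIne : I ≠ ⊤ := ne_top_of_le_ne_top (Ideal.IsPrime.ne_top inferInstance) hIa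
  let θr : B →+* E ⧸ I := (Ideal.Quotient.lift J ((Ideal.Quotient.mk I).comp (algebraMap R₀ E))
      fun r hr => Ideal.Quotient.eq_zero_iff_mem.mpr (Ideal.mem_map_of_mem _ hr)).comp eB.symm.toRingHom
  have hθr : ∀ r : R₀, θr (g r) = Ideal.Quotient.mk I (algebraMap R₀ E r) := fun r => by
    have : eB.symm (g r) = Ideal.Quotient.mk J r := eB.symm_apply_eq.mpr rfl
    exact (congrArg (Ideal.Quotient.lift J ((Ideal.Quotient.mk I).comp (algebraMap R₀ E))
      fun r hr => Ideal.Quotient.eq_zero_iff_mem.mpr (Ideal.mem_map_of_mem _ hr)) this).trans rfl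
  have hθc : ∀ c : A, θr (algebraMap A B c) = algebraMap A (E ⧸ I) c := fun c => by
    rw [show algebraMap A B c = g (algebraMap S0 R₀ (MvPolynomial.C c)) by
      rw [IsLocalization.lift_eq]; exact (g0.commutes c).symm, hθr, hR₀E]
    show Ideal.Quotient.mk I (algebraMap S1 E (MvPolynomial.map (algebraMap A B) (MvPolynomial.C c))) = _
    rw [MvPolynomial.map_C]
    rfl
  let θ : B →ₐ[A] E ⧸ I := AlgHom.mk θr hθc
  have hθg : ∀ r : R₀, θ (g r) = Ideal.Quotient.mk I (algebraMap R₀ E r) := hθr
  have hθ : ∀ (b : B) (e : E), θ b = Ideal.Quotient.mk I e → ε e = b := fun b e h => by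
    obtain ⟨r, rfl⟩ := hg b
    rw [hθg, Ideal.Quotient.eq] at h
    have := hIa h
    rw [show a = RingHom.ker ε from rfl, RingHom.mem_ker, map_sub, sub_eq_zero] at this
    rw [← this]
    exact RingHom.congr_fun hεg r
  have hker : a = Ideal.span (Set.range fun i => algebraMap S1 E (MvPolynomial.X i) - algebraMap B E (xs i)) := by
    have h1 : a = (RingHom.ker ev).map (algebraMap S1 E) := by
      refine (IsLocalization.map_comap n.primeCompl E a).symm.trans (congrArg _ ?_)
      ext f
      show ε (algebraMap S1 E f) = 0 ↔ _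
      rw [IsLocalization.lift_eq]
      rfl
    rw [h1, ker_eval_eq_span, Ideal.map_span, ← Set.range_comp]
    congr 1
    refine congrArg Set.range (funext fun i => ?_)
    rw [Function.comp_apply, map_sub, IsScalarTower.algebraMap_apply B S1 E]
    rfl
  have hξ : ∀ i, θ (xs i) = Ideal.Quotient.mk I (algebraMap S1 E (MvPolynomial.X i)) := fun i => by
    rw [show xs i = g (algebraMap S0 R₀ (MvPolynomial.X i)) from (IsLocalization.lift_eq _ _).symm, hθg, hR₀E,
      MvPolynomial.map_X]
  have hs : ∀ p : Ideal E, p.IsPrime → a ≤ p → p ≠ maximalIdeal E → ∃ s ∉ p, ∀ e ∈ a, s * e ∈ I := by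
    intro p _ hap hpm
    let q : Ideal B := p.map ε
    haveI : q.IsPrime := Ideal.map_isPrime_of_surjective hεs hap
    have hq : q.comap ε = p := by
      rw [Ideal.comap_map_of_surjective' ε hεs, sup_eq_left.mpr hap]
    haveI := hunr q fun h => hpm (by
      rw [← hq, h]
      exact (IsLocalRing.eq_maximalIdeal (Ideal.comap_isMaximal_of_surjective ε hεs)))
    exact map_le_of_unramified ε hεB I θ hIa hθ _ xs hker hξ hεs p hap q hq
  let b : Ideal E := I.colon (a : Set E)
  have hb : ∀ e, e ∈ b ↔ ∀ y ∈ a, e * y ∈ I := fun e => Submodule.mem_colon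
  have hab : a ⊓ b ≤ I.radical := fun e he => ⟨2, by rw [sq]; exact (hb e).mp he.2 e he.1⟩
  have hn' : ∀ p : Ideal E, p.IsPrime → a ⊔ b ≤ p → p = maximalIdeal E := fun p hp h => by
    by_contra hpm
    obtain ⟨s, hsp, hsI⟩ := hs p hp (le_sup_left.trans h) hpm
    exact hsp (h (Ideal.mem_sup_right ((hb s).mpr hsI)))
  have hane : a ≠ maximalIdeal E := fun h => hbot (by
    rw [← map_maximalIdeal_of_surjective ε hεs, ← h, eq_bot_iff, Ideal.map_le_iff_le_comap,
      ← RingHom.ker_eq_comap_bot])
  have harad : a ≤ I.radical := by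
    refine (le_radical_or_le_radical hab hn' J rfl hIne hdepE).resolve_right fun h => ?_
    obtain ⟨s, hsp, hsI⟩ := hs a inferInstance le_rfl hane
    exact hsp ((Ideal.IsPrime.radical_le_iff inferInstance).mpr hIa (h ((hb s).mpr hsI)))
  -- the diagonal of the residue field is a minimal prime
  let k := ResidueField A
  let κ := ResidueField B
  haveI : Algebra.EssFiniteType k κ := by
    haveI : Algebra.EssFiniteType B κ := inferInstance
    haveI : Algebra.EssFiniteType A κ := Algebra.EssFiniteType.comp A B κ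
    exact Algebra.EssFiniteType.of_comp A k κ
  refine finite_of_minimal_diagonal k κ ?_
  let W := κ ⊗[k] κ
  let μ : W →+* κ := (Algebra.TensorProduct.lmul' k (S := κ)).toRingHom
  refine ⟨⟨RingHom.ker_isPrime μ, bot_le⟩, fun Q ⟨hQ, _⟩ hQle => ?_⟩
  let lB : B →+* W := (Algebra.TensorProduct.includeLeftRingHom).comp (residue B)
  let rB : B →+* W := (Algebra.TensorProduct.includeRight (R := k) (A := κ) (B := κ)).toRingHom.comp (residue B)
  let h : S1 →+* W := MvPolynomial.eval₂Hom lB fun i => rB (xs i)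
  have hhψ : h.comp ψ = rB.comp g0.toRingHom := by
    refine MvPolynomial.ringHom_ext (fun c => ?_) fun i => ?_
    · show h (MvPolynomial.map (algebraMap A B) (MvPolynomial.C c)) = rB (g0 (MvPolynomial.C c))
      rw [MvPolynomial.map_C, MvPolynomial.eval₂Hom_C, show g0 (MvPolynomial.C c) = algebraMap A B c from g0.commutes c]
      show residue B (algebraMap A B c) ⊗ₜ[k] (1 : κ) = (1 : κ) ⊗ₜ[k] residue B (algebraMap A B c)
      rw [show residue B (algebraMap A B c) = (algebraMap A k c) • (1 : κ) from by rw [Algebra.smul_def, mul_one]; rfl,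
        smul_tmul]
    · show h (MvPolynomial.map (algebraMap A B) (MvPolynomial.X i)) = rB (g0 (MvPolynomial.X i))
      rw [MvPolynomial.map_X, MvPolynomial.eval₂Hom_X']
  have hμ : μ.comp h = (residue B).comp ev := by
    refine MvPolynomial.ringHom_ext (fun c => ?_) fun i => ?_
    · show μ (h (MvPolynomial.C c)) = residue B (ev (MvPolynomial.C c))
      rw [MvPolynomial.eval₂Hom_C, hevC]
      exact mul_one (residue B c)
    · show μ (h (MvPolynomial.X i)) = residue B (ev (MvPolynomial.X i))
      rw [MvPolynomial.eval₂Hom_X', show ev (MvPolynomial.X i) = xs i from MvPolynomial.eval_X i]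
      exact one_mul (residue B (xs i))
  let Q' : Ideal S1 := Q.comap h
  haveI := hQ
  haveI : Q'.IsPrime := Ideal.IsPrime.comap _
  have hQn : Q' ≤ n := fun f hf => by
    have : μ (h f) = 0 := hQle hf
    rw [show μ (h f) = residue B (ev f) from RingHom.congr_fun hμ f, residue_eq_zero_iff] at this
    exact this
  let QE : Ideal E := Q'.map (algebraMap S1 E)
  have hdisj : Disjoint (n.primeCompl : Set S1) (Q' : Set S1) := Set.disjoint_left.mpr fun z hz hz' => hz (hQn hz')
  haveI : QE.IsPrime := IsLocalization.isPrime_of_isPrime_disjoint n.primeCompl E Q' inferInstance hdisj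
  have hQE : QE.comap (algebraMap S1 E) = Q' :=
    IsLocalization.comap_map_of_isPrime_disjoint n.primeCompl E inferInstance hdisj
  have hIQ : I ≤ QE := by
    show J.map (algebraMap R₀ E) ≤ QE
    rw [← IsLocalization.map_comap P.primeCompl R₀ J, Ideal.under, hJcomap, Ideal.map_map, Ideal.map_le_iff_le_comap]
    intro f hf
    show algebraMap R₀ E (algebraMap S0 R₀ f) ∈ QE
    rw [hR₀E]
    refine Ideal.mem_map_of_mem _ ?_
    show h (ψ f) ∈ Q
    rw [show h (ψ f) = rB (g0.toRingHom f) from RingHom.congr_fun hhψ f, RingHom.mem_ker.mp hf, map_zero]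
    exact zero_mem Q
  have haQ : a ≤ QE := harad.trans ((Ideal.IsPrime.radical_le_iff inferInstance).mpr hIQ)
  have heq : ∀ f : S0, Ideal.Quotient.mk Q (lB (g0 f)) = Ideal.Quotient.mk Q (rB (g0 f)) := by
    intro f
    rw [Ideal.Quotient.eq, show rB (g0 f) = h (ψ f) from (RingHom.congr_fun hhψ f).symm,
      show lB (g0 f) = h (MvPolynomial.C (g0 f)) from (MvPolynomial.eval₂Hom_C _ _ _).symm, ← map_sub]
    show MvPolynomial.C (g0 f) - ψ f ∈ Q'
    rw [← hQE, Ideal.mem_comap]
    refine haQ ?_
    show ε (algebraMap S1 E _) = 0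
    rw [IsLocalization.lift_eq, map_sub, hevC, show ev (ψ f) = g0 f from RingHom.congr_fun hψ f, sub_self]
  let fL : κ →+* W ⧸ Q := (Ideal.Quotient.mk Q).comp Algebra.TensorProduct.includeLeftRingHom
  let fR : κ →+* W ⧸ Q := (Ideal.Quotient.mk Q).comp (Algebra.TensorProduct.includeRight (R := k) (A := κ) (B := κ)).toRingHom
  have hf : fL = fR := by
    have hfg : fL.comp ((residue B).comp g) = fR.comp ((residue B).comp g) :=
      IsLocalization.ringHom_ext P.primeCompl (RingHom.ext fun f => by
        show fL (residue B (g (algebraMap S0 R₀ f))) = fR (residue B (g (algebraMap S0 R₀ f)))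
        rw [IsLocalization.lift_eq]
        exact heq f)
    have hsurj : Function.Surjective ((residue B).comp g) := fun y => by
      obtain ⟨b, rfl⟩ := residue_surjective y
      exact (hg b).imp fun r hr => congrArg (residue B) hr
    exact (RingHom.cancel_right hsurj).mp hfg
  intro w hw
  rw [← Ideal.Quotient.eq_zero_iff_mem]
  have hwμ : ∀ w : W, Ideal.Quotient.mk Q w = fL (μ w) := by
    intro w
    induction w using TensorProduct.induction_on with
    | zero => simp
    | add u v hu hv => simp [map_add, hu, hv]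
    | tmul u v =>
      show _ = fL (Algebra.TensorProduct.lmul' k (u ⊗ₜ v))
      rw [Algebra.TensorProduct.lmul'_apply_tmul, map_mul]
      nth_rw 2 [hf]
      show _ = Ideal.Quotient.mk Q (u ⊗ₜ[k] (1 : κ)) * Ideal.Quotient.mk Q ((1 : κ) ⊗ₜ[k] v)
      rw [← map_mul, Algebra.TensorProduct.tmul_mul_tmul, mul_one, one_mul]
  rw [hwμ, show μ w = 0 from hw, map_zero]

end Groth.Agent.H18Pur.Ram
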