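import Mathlib
import Groth.Agent.H18Pur.Ram.DimTwo
import Groth.Agent.H18Pur.Ram.BaseChange
import Groth.Agent.H18Et.EtaleStalk
import Groth.Agent.H06EGA14.CatenaryCriteria
import Groth.Agent.H05EGA4.CompleteNormalization
import Groth.Agent.H05EGA4.IntegralDim
import Groth.Agent.H1CAlg.NagataFiniteType
import Groth.Agent.H8Props.NagataAffine
import Groth.Agent.H02CA.CompletionFlat
import Groth.Agent.H4Conn.Bound
import Groth.Agent.H02CA.Node.Completed

/-!
# Quasi-finiteness of rings étale over a regular ring on their punctured spectrum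
-/

set_option autoImplicit false
set_option backward.isDefEq.respectTransparency false

universe u

open IsLocalRing TensorProduct

namespace Groth.Agent.H18Pur.Ram

/-- Flat and formally unramified at every prime other than the closed point. -/
def EtPunctured (A R : Type u) [CommRing A] [CommRing R] [IsLocalRing R] [Algebra A R] : Prop :=
  ∀ (Q : Ideal R) [Q.IsPrime], Q ≠ maximalIdeal R →
    Module.Flat A (Localization.AtPrime Q) ∧ Algebra.FormallyUnramified A (Localization.AtPrime Q)

theorem regular_localization {A R : Type u} [CommRing A] [IsRegularLocalRing A] [CommRing R] [Algebra A R]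
    [Algebra.EssFiniteType A R] (Q : Ideal R) [Q.IsPrime] [Module.Flat A (Localization.AtPrime Q)]
    [Algebra.FormallyUnramified A (Localization.AtPrime Q)] :
    IsRegularLocalRing (Localization.AtPrime Q) ∧
      ringKrullDim (Localization.AtPrime Q) = ringKrullDim (Localization.AtPrime (Q.comap (algebraMap A R))) := by
  haveI : IsNoetherianRing R := Algebra.EssFiniteType.isNoetherianRing A R
  let p := Q.comap (algebraMap A R)
  haveI : Q.LiesOver p := ⟨rfl⟩
  let Ap := Localization.AtPrime p
  let RQ := Localization.AtPrime Q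
  haveI : IsRegularLocalRing Ap := H05EGA4.isRegularLocalRing_localization A p
  letI := Localization.AtPrime.algebraOfLiesOver p Q
  haveI : Module.Flat Ap RQ := (Module.flat_iff_of_isLocalization Ap p.primeCompl RQ).mpr inferInstance
  haveI : Algebra.FormallyUnramified Ap RQ := Algebra.FormallyUnramified.of_restrictScalars A Ap RQ
  haveI : Algebra.EssFiniteType A RQ := Algebra.EssFiniteType.comp A R RQ
  haveI : Algebra.EssFiniteType Ap RQ := Algebra.EssFiniteType.of_comp A Ap RQ
  obtain ⟨-, hm⟩ := Algebra.FormallyUnramified.iff_map_maximalIdeal_eq.mp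
    (inferInstance : Algebra.FormallyUnramified Ap RQ)
  exact ⟨(H18Et.isRegularLocalRing_iff_of_map_maximalIdeal Ap RQ hm).mpr inferInstance,
    H18Et.ringKrullDim_eq_of_map_maximalIdeal Ap RQ hm⟩

theorem injective_of_flat_bot {A B : Type u} [CommRing A] [IsDomain A] [CommRing B] [IsDomain B] [Algebra A B]
    [Module.Flat A (Localization.AtPrime (⊥ : Ideal B))] : Function.Injective (algebraMap A B) := by
  rw [injective_iff_map_eq_zero]
  intro a ha
  by_contra ha0
  let L := Localization.AtPrime (⊥ : Ideal B)
  have h : IsSMulRegular L a := Module.Flat.isSMulRegular_of_isRegular (IsRegular.of_ne_zero ha0)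
  refine one_ne_zero (α := L) (h ?_)
  show a • (1 : L) = a • 0
  rw [smul_zero, Algebra.smul_def, IsScalarTower.algebraMap_apply A B L, ha, map_zero, zero_mul]

theorem finite_residueField_of_algHom {A B T : Type u} [CommRing A] [IsNoetherianRing A] [CommRing B] [IsLocalRing B]
    [CommRing T] [IsLocalRing T] [Algebra A B] [Algebra A T] (φ : B →ₐ[A] T) (hφ : IsLocalHom φ.toRingHom)
    (h : Module.Finite A (ResidueField T)) : Module.Finite A (ResidueField B) := by
  haveI := h
  haveI := hφ
  let g : ResidueField B →ₐ[A] ResidueField T :=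
    { ResidueField.map φ.toRingHom with
      commutes' := fun a => by
        show ResidueField.map φ.toRingHom (residue B (algebraMap A B a)) = residue T (algebraMap A T a)
        rw [ResidueField.map_residue]
        exact congrArg _ (φ.commutes a) }
  exact Module.Finite.of_injective g.toLinearMap (RingHom.injective g.toRingHom)

theorem mk'_mul_swap {D S : Type u} [CommRing D] [CommSemiring S] [Algebra D S] (M : Submonoid D) [IsLocalization M S]
    (y : D) (t : M) (a b r r' : D) (h1 : a * y = r) (h2 : b * (t : D) = r') :
    IsLocalization.mk' S y t * (algebraMap D S a * algebraMap D S r') = algebraMap D S r * algebraMap D S b := by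
  subst h1 h2
  simp only [map_mul]
  rw [← IsLocalization.mk'_spec S y t]
  ring

/-- Pass to a normal domain without changing the dimension. -/
theorem exists_normal {A R : Type u} [CommRing A] [IsRegularLocalRing A] [IsAdicComplete (maximalIdeal A) A]
    [CommRing R] [IsLocalRing R] [Algebra A R] [IsLocalHom (algebraMap A R)] [Algebra.EssFiniteType A R]
    (d : ℕ) (hd : ringKrullDim R = d) (hd2 : 2 ≤ d) (het : EtPunctured A R) :
    ∃ (B : Type u) (_ : CommRing B) (_ : IsLocalRing B) (_ : IsDomain B) (_ : IsIntegrallyClosed B)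
      (_ : Algebra A B), IsLocalHom (algebraMap A B) ∧ Algebra.EssFiniteType A B ∧ ringKrullDim B = d ∧
      EtPunctured A B ∧ (Module.Finite A (ResidueField B) → Module.Finite A (ResidueField R)) := by
  classical
  haveI : IsNoetherianRing R := Algebra.EssFiniteType.isNoetherianRing A R
  obtain ⟨P, hP, hPdim⟩ := H06EGA14.exists_minimalPrime_dim_eq R
  haveI : P.IsPrime := hP.1.1
  let D := R ⧸ P
  haveI : IsLocalRing D := .of_surjective' (Ideal.Quotient.mk P) Ideal.Quotient.mk_surjective
  let K := FractionRing D
  let D' := integralClosure D K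
  have hnag : CAlg.IsNagata R := by
    haveI : IsLocalization (Algebra.EssFiniteType.submonoid A R) R := inferInstance
    exact H8Props.NagataAffine.isNagata_of_isLocalization (Algebra.EssFiniteType.submonoid A R) R
      (H1CAlg.isNagata_of_finiteType (R := A) (H05EGA4.isNagata_of_isAdicComplete A))
  haveI : Module.Finite D D' := hnag.2 P K (inferInstance : FiniteDimensional K K)
  haveI : Algebra.IsIntegral D D' := inferInstance
  haveI : IsIntegrallyClosed D' := integralClosure.isIntegrallyClosedOfFiniteExtension K
  have hinjD : Function.Injective (algebraMap D D') := fun u v huv =>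
    IsFractionRing.injective D K (congrArg Subtype.val huv)
  have hdimD' : ringKrullDim D' = d := ((H05EGA4.dim_int D D').2 hinjD).trans (hPdim.trans hd)
  obtain ⟨n, hn, hnd⟩ : ∃ n : Ideal D', n.IsMaximal ∧ (n.height : WithBot ℕ∞) = d := by
    by_contra hcon
    push Not at hcon
    have h1 : ringKrullDim D' ≤ ((d - 1 : ℕ) : WithBot ℕ∞) := by
      rw [ringKrullDim_le_iff_isMaximal_height_le]
      intro m hm
      have hle : (m.height : WithBot ℕ∞) ≤ d := hdimD' ▸ Ideal.height_le_ringKrullDim_of_ne_top hm.ne_top
      obtain ⟨k, hk⟩ := ENat.ne_top_iff_exists.mp (fun h : m.height = ⊤ => by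
        rw [h] at hle
        exact absurd (WithBot.coe_le_coe.mp hle) (by simp))
      have hne := hcon m hm
      rw [← hk] at hle hne ⊢
      have h2 : k ≤ d := by exact_mod_cast hle
      have h3 : k ≠ d := fun h => hne (by rw [h]; rfl)
      exact WithBot.coe_le_coe.mpr (Nat.cast_le.mpr (by omega : k ≤ d - 1))
    rw [hdimD'] at h1
    have : d ≤ d - 1 := by exact_mod_cast h1
    omega
  haveI := hn
  let B := Localization.AtPrime n
  haveI : IsDomain B := IsLocalization.isDomain_of_atPrime B n
  haveI : IsIntegrallyClosed B :=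
    isIntegrallyClosed_of_isLocalization B n.primeCompl n.primeCompl_le_nonZeroDivisors
  have hnR : n.comap (algebraMap R D') = maximalIdeal R := by
    have h1 : (n.comap (algebraMap D D')).IsMaximal := Ideal.isMaximal_comap_of_isIntegral_of_isMaximal n
    haveI := h1
    have : n.comap (algebraMap R D') = (n.comap (algebraMap D D')).comap (Ideal.Quotient.mk P) := by
      rw [Ideal.comap_comap]
      rfl
    rw [this]
    exact eq_maximalIdeal (Ideal.comap_isMaximal_of_surjective _ Ideal.Quotient.mk_surjective)
  have hRB : IsLocalHom (algebraMap R B) := ⟨fun r hr => by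
    by_contra h
    have h1 : algebraMap R D' r ∈ n := by
      rw [← Ideal.mem_comap, hnR]
      exact (mem_maximalIdeal _).mpr h
    rw [IsScalarTower.algebraMap_apply R D' B] at hr
    exact (IsLocalization.AtPrime.isUnit_to_map_iff B n _).mp hr h1⟩
  haveI := hRB
  haveI : IsScalarTower A R B := IsScalarTower.of_algebraMap_eq fun a => by
    rw [IsScalarTower.algebraMap_apply A D' B, IsScalarTower.algebraMap_apply A R D',
      ← IsScalarTower.algebraMap_apply R D' B]
  have hlA : IsLocalHom (algebraMap A B) := by
    rw [IsScalarTower.algebraMap_eq A R B]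
    exact RingHom.isLocalHom_comp _ _
  haveI : Algebra.EssFiniteType A B := by
    haveI : Module.Finite R D := Module.Finite.quotient R P
    haveI : Module.Finite R D' := Module.Finite.trans D D'
    haveI : Algebra.EssFiniteType R B := Algebra.EssFiniteType.comp R D' B
    exact Algebra.EssFiniteType.comp A R B
  refine ⟨B, inferInstance, inferInstance, inferInstance, inferInstance, inferInstance, hlA, inferInstance,
    (IsLocalization.AtPrime.ringKrullDim_eq_height n B).trans hnd, ?_, fun h =>
      finite_residueField_of_algHom (IsScalarTower.toAlgHom A R B) hRB h⟩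
  intro Q _ hQ
  let Q' : Ideal D' := Q.comap (algebraMap D' B)
  let q : Ideal R := Q'.comap (algebraMap R D')
  have hq : q ≠ maximalIdeal R := by
    intro h
    apply hQ
    haveI : (Q'.comap (algebraMap D D')).IsMaximal := by
      have h' : (Q'.comap (algebraMap D D')).comap (Ideal.Quotient.mk P) = maximalIdeal R := by
        rw [← h, Ideal.comap_comap]
        rfl
      have h'' : ((maximalIdeal R).map (Ideal.Quotient.mk P)) = Q'.comap (algebraMap D D') := by
        rw [← h', Ideal.map_comap_of_surjective _ Ideal.Quotient.mk_surjective]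
      rw [← h'', map_maximalIdeal_of_surjective _ Ideal.Quotient.mk_surjective]
      exact maximalIdeal.isMaximal D
    haveI : Q'.IsMaximal := Ideal.isMaximal_of_isIntegral_of_isMaximal_comap Q' ‹_›
    have hle : Q' ≤ n := fun z hz => by
      by_contra hzn
      exact (Ideal.IsPrime.ne_top ‹Q.IsPrime›) (Q.eq_top_of_isUnit_mem hz (IsLocalization.map_units B (⟨z, hzn⟩ : n.primeCompl)))
    have hQn : Q' = n := (Ideal.IsMaximal.eq_of_le ‹Q'.IsMaximal› hn.ne_top hle)
    rw [← IsLocalization.map_comap n.primeCompl B Q, Ideal.under]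
    show Q'.map _ = _
    rw [hQn, IsLocalization.AtPrime.map_eq_maximalIdeal]
  obtain ⟨hflat, hur⟩ := het q hq
  let T := Localization.AtPrime q
  haveI : IsRegularLocalRing T := (regular_localization (A := A) q).1
  haveI : IsDomain T := H4Depth.isDomain_of_isRegularLocalRing T
  haveI : IsIntegrallyClosed T := H05EGA4.isIntegrallyClosed_of_isRegularLocalRing T
  have hPq : P ≤ q := fun r hr => by
    show algebraMap D' B (algebraMap R D' r) ∈ Q
    rw [IsScalarTower.algebraMap_apply R D D', show algebraMap R D r = 0 from Ideal.Quotient.eq_zero_iff_mem.mpr hr,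
      map_zero, map_zero]
    exact zero_mem Q
  -- `P` dies in `R_q`
  have hPT : ∀ r ∈ P, algebraMap R T r = 0 := by
    have hdisj : Disjoint (q.primeCompl : Set R) (P : Set R) :=
      Set.disjoint_left.mpr fun z hz hz' => hz (hPq hz')
    haveI : (RingHom.ker (algebraMap R T)).IsPrime := RingHom.ker_isPrime _
    have hle : RingHom.ker (algebraMap R T) ≤ P := fun r hr => by
      obtain ⟨⟨c, hc⟩, hcr⟩ := (IsLocalization.map_eq_zero_iff q.primeCompl T r).mp hr
      exact ((‹P.IsPrime›).mem_or_mem (show c * r ∈ P by rw [hcr]; exact zero_mem P)).resolve_left fun h => hc (hPq h)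
    exact fun r hr => hP.2 ⟨inferInstance, bot_le⟩ hle hr
  have hPK : ∀ r : R, algebraMap R K r = 0 ↔ r ∈ P := fun r => by
    rw [IsScalarTower.algebraMap_apply R D K, map_eq_zero_iff _ (IsFractionRing.injective D K)]
    exact Ideal.Quotient.eq_zero_iff_mem
  let ψ : T →+* K := IsLocalization.lift (M := q.primeCompl) (g := algebraMap R K) fun y =>
    IsUnit.mk0 _ fun h => y.2 (hPq ((hPK _).mp h))
  have hψ : ∀ r, ψ (algebraMap R T r) = algebraMap R K r := fun r => IsLocalization.lift_eq _ r
  letI : Algebra T K := ψ.toAlgebra
  have hψinj : Function.Injective (algebraMap T K) := by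
    rw [injective_iff_map_eq_zero]
    intro t ht
    obtain ⟨r, s, rfl⟩ := IsLocalization.exists_mk'_eq q.primeCompl t
    have h1 : ψ (IsLocalization.mk' T r s * algebraMap R T (s : R)) = 0 := by rw [map_mul, show ψ (IsLocalization.mk' T r s) = 0 from ht, zero_mul]
    rw [IsLocalization.mk'_spec, hψ, hPK] at h1
    rw [IsLocalization.mk'_eq_zero_iff]
    obtain ⟨c, hc⟩ := (IsLocalization.map_eq_zero_iff q.primeCompl T r).mp (hPT r h1)
    exact ⟨c, hc⟩
  haveI : FaithfulSMul T K := (faithfulSMul_iff_algebraMap_injective T K).mpr hψinj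
  haveI : IsScalarTower R T K := IsScalarTower.of_algebraMap_eq fun r => (hψ r).symm
  haveI : IsFractionRing T K := IsFractionRing.of_field T K fun z => by
    obtain ⟨a, b, hb, hz⟩ := IsFractionRing.div_surjective (A := D) z
    obtain ⟨a, rfl⟩ := Ideal.Quotient.mk_surjective a
    obtain ⟨b, rfl⟩ := Ideal.Quotient.mk_surjective b
    refine ⟨algebraMap R T a, algebraMap R T b, ?_⟩
    rw [← hz, ← IsScalarTower.algebraMap_apply, ← IsScalarTower.algebraMap_apply,
      IsScalarTower.algebraMap_apply R D K, IsScalarTower.algebraMap_apply R D K]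
    rfl
  -- elements of the normalization are fractions with denominators outside `q`
  have hfrac : ∀ y : D', ∃ r s : R, s ∉ q ∧ algebraMap R D' s * y = algebraMap R D' r := fun y => by
    have hy : IsIntegral R (y : K) := isIntegral_trans (R := R) (A := D) (y : K) y.2
    obtain ⟨t, ht⟩ := IsIntegrallyClosed.isIntegral_iff.mp (hy.tower_top (A := T))
    obtain ⟨r, s, rfl⟩ := IsLocalization.exists_mk'_eq q.primeCompl t
    refine ⟨r, s, s.2, Subtype.ext ?_⟩
    show algebraMap R K (s : R) * (y : K) = algebraMap R K r
    rw [← ht, ← hψ, ← hψ]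
    show ψ (algebraMap R T (s : R)) * ψ _ = ψ _
    rw [← map_mul, IsLocalization.mk'_spec']
  haveI : IsLocalization.AtPrime (Localization.AtPrime Q) Q' :=
    IsLocalization.isLocalization_isLocalization_atPrime_isLocalization n.primeCompl (Localization.AtPrime Q) Q
  haveI : IsScalarTower R D' (Localization.AtPrime Q) := IsScalarTower.of_algebraMap_eq fun r => by
    rw [IsScalarTower.algebraMap_apply R B (Localization.AtPrime Q), IsScalarTower.algebraMap_apply R D' B,
      ← IsScalarTower.algebraMap_apply D' B (Localization.AtPrime Q)]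
  haveI : IsLocalization.AtPrime (Localization.AtPrime Q) q := by
    refine ⟨fun s => ?_, fun z => ?_, fun {r r'} h => ?_⟩
    · rw [IsScalarTower.algebraMap_apply R D' (Localization.AtPrime Q)]
      exact IsLocalization.map_units (Localization.AtPrime Q) (⟨algebraMap R D' s, s.2⟩ : Q'.primeCompl)
    · obtain ⟨y, t, rfl⟩ := IsLocalization.exists_mk'_eq Q'.primeCompl z
      obtain ⟨r, s, hs, hy⟩ := hfrac y
      obtain ⟨r', s', hs', ht⟩ := hfrac (t : D')
      have hr' : r' ∉ q := fun h => by
        have : algebraMap R D' s' * (t : D') ∈ Q' := ht ▸ h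
        rcases Ideal.IsPrime.mem_or_mem inferInstance this with h | h
        · exact hs' h
        · exact t.2 h
      refine ⟨⟨r * s', ⟨s * r', ?_⟩⟩, ?_⟩
      · exact Ideal.mem_primeCompl_iff.mpr fun h => (Ideal.IsPrime.mem_or_mem inferInstance h).elim hs hr'
      · show IsLocalization.mk' (Localization.AtPrime Q) y t * algebraMap R (Localization.AtPrime Q) (s * r') = algebraMap R (Localization.AtPrime Q) (r * s')
        rw [IsScalarTower.algebraMap_apply R D' (Localization.AtPrime Q), IsScalarTower.algebraMap_apply R D' (Localization.AtPrime Q)]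
        simp only [map_mul]
        exact mk'_mul_swap (S := Localization.AtPrime Q) Q'.primeCompl y t _ _ _ _ hy ht
    · rw [IsScalarTower.algebraMap_apply R D' (Localization.AtPrime Q), IsScalarTower.algebraMap_apply R D' (Localization.AtPrime Q)] at h
      obtain ⟨c, hc⟩ := (IsLocalization.eq_iff_exists Q'.primeCompl (Localization.AtPrime Q)).mp h
      have h2 := mul_left_cancel₀ (fun h0 : (c : D') = 0 => c.2 (h0 ▸ zero_mem Q')) hc
      have h3 : algebraMap R K (r - r') = 0 := by
        rw [map_sub, sub_eq_zero]
        exact congrArg Subtype.val h2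
      obtain ⟨⟨c, hc⟩, hc'⟩ := (IsLocalization.map_eq_zero_iff q.primeCompl T _).mp (hPT _ ((hPK _).mp h3))
      exact ⟨⟨c, hc⟩, by rwa [mul_sub, sub_eq_zero] at hc'⟩
  haveI : IsScalarTower A R (Localization.AtPrime Q) := IsScalarTower.of_algebraMap_eq fun a => by
    rw [IsScalarTower.algebraMap_apply A B (Localization.AtPrime Q), IsScalarTower.algebraMap_apply A R B,
      ← IsScalarTower.algebraMap_apply R B (Localization.AtPrime Q)]
  let e : T ≃ₐ[A] (Localization.AtPrime Q) := (IsLocalization.algEquiv q.primeCompl T (Localization.AtPrime Q)).restrictScalars A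
  haveI := hflat
  haveI := hur
  exact ⟨Module.Flat.of_linearEquiv e.symm.toLinearEquiv, Algebra.FormallyUnramified.of_equiv e⟩

/-- Induction on the dimension over a complete base. -/
theorem finite_residueField_complete : ∀ (d : ℕ) {A R : Type u} [CommRing A] [IsRegularLocalRing A]
    [IsAdicComplete (maximalIdeal A) A] [CommRing R] [IsLocalRing R] [Algebra A R] [IsLocalHom (algebraMap A R)]
    [Algebra.EssFiniteType A R], ringKrullDim R = d → 2 ≤ d → EtPunctured A R → Module.Finite A (ResidueField R) := by
  intro d
  induction d with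
  | zero => intro A R _ _ _ _ _ _ _ _ _ h; omega
  | succ d ih =>
    intro A R _ _ _ _ _ _ _ _ hd hd2 het
    obtain ⟨B, _, _, _, _, _, hlA, hessB, hdimB, hetB, hfin⟩ := exists_normal (d + 1) hd hd2 het
    haveI := hlA
    haveI := hessB
    apply hfin
    haveI : IsNoetherianRing B := Algebra.EssFiniteType.isNoetherianRing A B
    haveI : IsDomain A := H4Depth.isDomain_of_isRegularLocalRing A
    have hbot : (⊥ : Ideal B) ≠ maximalIdeal B := fun h => by
      rw [ringKrullDim_eq_zero_of_isField (isField_iff_maximalIdeal_eq.mpr h.symm)] at hdimB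
      exact absurd (show 0 = d + 1 by exact_mod_cast hdimB) (by omega)
    have hinj : Function.Injective (algebraMap A B) := by
      haveI := (hetB ⊥ hbot).1
      exact injective_of_flat_bot
    rcases Nat.lt_or_ge d 2 with hlt | hge
    · obtain rfl : d = 1 := by omega
      haveI := finite_residueField_of_dim_two hinj (by rw [hdimB]; rfl) fun Q _ hQ => (hetB Q hQ).2
      exact Module.Finite.trans (ResidueField A) (ResidueField B)
    · obtain ⟨e, x, hde, hx⟩ := H4Depth.exists_regular_system_of_parameters A
      have he : 0 < e := by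
        by_contra he
        obtain rfl : e = 0 := by omega
        have hA : maximalIdeal A = ⊥ := by rw [← hx]; simp
        have hm : maximalIdeal B ≠ ⊥ := fun h => hbot h.symm
        obtain ⟨b, hb, hb0⟩ := Submodule.exists_mem_ne_zero_of_ne_bot hm
        obtain ⟨Q, hQ⟩ := Ideal.nonempty_minimalPrimes (I := Ideal.span {b})
          (by rw [Ne, Ideal.span_singleton_eq_top]; exact (mem_maximalIdeal _).mp hb)
        haveI := hQ.1.1
        have hQ1 : Q.height ≤ 1 := Ideal.height_le_one_of_isPrincipal_of_mem_minimalPrimes _ Q hQ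
        have hQne : Q ≠ maximalIdeal B := fun h => by
          rw [h] at hQ1
          have h' : ringKrullDim B ≤ 1 := by
            rw [← maximalIdeal_height_eq_ringKrullDim]
            exact_mod_cast hQ1
          rw [hdimB] at h'
          have : d + 1 ≤ 1 := by exact_mod_cast h'
          omega
        obtain ⟨hf, hu⟩ := hetB Q hQne
        have h0 := (regular_localization (A := A) Q).2
        rw [IsLocalization.AtPrime.ringKrullDim_eq_height Q (Localization.AtPrime Q),
          IsLocalization.AtPrime.ringKrullDim_eq_height (Q.comap (algebraMap A B)) (Localization.AtPrime _)] at h0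
        have h1 : Q.comap (algebraMap A B) = ⊥ := eq_bot_iff.mpr (hA ▸ le_maximalIdeal (Ideal.IsPrime.ne_top inferInstance))
        rw [h1, Ideal.height_bot] at h0
        have h2 : Q = ⊥ := Ideal.height_eq_zero_iff_eq_bot.mp (WithBot.coe_injective h0)
        exact hb0 (by simpa using (h2 ▸ hQ.1.2) (Ideal.mem_span_singleton_self b))
      let f := x ⟨0, he⟩
      obtain ⟨hreg, -⟩ := H4Depth.exists_regular_quotient_of_subset e hde x hx {⟨0, he⟩}
      rw [show x '' ↑({⟨0, he⟩} : Finset (Fin e)) = {f} by simp [f]] at hreg
      let A' := A ⧸ Ideal.span {f}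
      haveI : IsRegularLocalRing A' := hreg
      haveI : IsAdicComplete (maximalIdeal A') A' := H4Conn.isAdicComplete_quotient _
      have hfm : f ∈ maximalIdeal A := hx ▸ Ideal.subset_span ⟨_, rfl⟩
      have hf0 : f ≠ 0 := fun h => by
        have : (Ideal.span {f} : Ideal A) = ⊥ := by rw [h, Ideal.span_singleton_eq_bot]
        obtain ⟨-, hq⟩ := H4Depth.exists_regular_quotient_of_subset e hde x hx {⟨0, he⟩}
        rw [show x '' ↑({⟨0, he⟩} : Finset (Fin e)) = {f} by simp [f], Finset.card_singleton] at hq
        rw [this, ringKrullDim_eq_of_ringEquiv (RingEquiv.quotientBot A), hde] at hq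
        have : e = e - 1 := by exact_mod_cast hq
        omega
      have hfB : algebraMap A B f ∈ maximalIdeal B := map_nonunit _ f hfm
      let T := A' ⊗[A] B
      let ρ : B →ₐ[A] T := Algebra.TensorProduct.includeRight
      have hρ : Function.Surjective ρ := Algebra.TensorProduct.includeRight_surjective _ Ideal.Quotient.mk_surjective
      have hdimT : ringKrullDim T = d := by
        have h := ringKrullDim_quotient_span_singleton_succ_eq_ringKrullDim (R := B)
          (IsSMulRegular.of_ne_zero ((map_ne_zero_iff _ hinj).mpr hf0)) hfB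
        rw [← ringKrullDim_eq_of_ringEquiv ((Algebra.TensorProduct.quotIdealMapEquivQuotTensor B
          (Ideal.span {f})).toRingEquiv), Ideal.map_span, Set.image_singleton]
        rw [hdimB] at h
        obtain ⟨k, hk⟩ : ∃ k : ℕ, ringKrullDim (B ⧸ Ideal.span {algebraMap A B f}) = k := by
          haveI : Nontrivial (B ⧸ Ideal.span {algebraMap A B f}) := Ideal.Quotient.nontrivial_iff.mpr
            (ne_top_of_le_ne_top (maximalIdeal.isMaximal B).ne_top ((Ideal.span_singleton_le_iff_mem _).mpr hfB))
          haveI : IsLocalRing (B ⧸ Ideal.span {algebraMap A B f}) := .of_surjective' _ Ideal.Quotient.mk_surjective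
          exact H22Alg.exists_nat_ringKrullDim' _
        rw [hk] at h ⊢
        have : k + 1 = d + 1 := by exact_mod_cast h
        exact_mod_cast (by omega : k = d)
      haveI : Nontrivial T := by
        rw [← not_subsingleton_iff_nontrivial]
        intro h
        rw [ringKrullDim_eq_bot_of_subsingleton] at hdimT
        exact WithBot.natCast_ne_bot d hdimT.symm
      haveI : IsLocalRing T := .of_surjective' ρ.toRingHom hρ
      haveI hρl : IsLocalHom ρ.toRingHom := IsLocalHom.of_surjective _ hρ
      haveI : IsLocalHom (algebraMap A' T) := ⟨fun a ha => by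
        obtain ⟨a, rfl⟩ := Ideal.Quotient.mk_surjective a
        have h1 : IsUnit (ρ (algebraMap A B a)) := by
          rw [ρ.commutes]
          exact ha
        exact (isUnit_of_map_unit (algebraMap A B) a (isUnit_of_map_unit ρ.toRingHom _ h1)).map _⟩
      have hetT : EtPunctured A' T := fun Q _ hQ => by
        have hq : Q.comap ρ.toRingHom ≠ maximalIdeal B := fun h => hQ (by
          refine Ideal.comap_injective_of_surjective ρ.toRingHom hρ (h.trans ?_)
          exact (maximalIdeal_comap ρ.toRingHom).symm)
        obtain ⟨_, _⟩ := hetB (Q.comap ρ.toRingHom) hq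
        exact flat_unramified_baseChange A' (Q.comap ρ.toRingHom) Q rfl
      haveI : Module.Finite A' (ResidueField T) := ih hdimT hge hetT
      exact finite_residueField_of_algHom ρ hρl (Module.Finite.trans A' (ResidueField T))

/-- A normal ring of dimension at least two, étale over a regular ring on its punctured spectrum, has finite
residue field extension. -/
theorem finite_residueField {A B : Type u} [CommRing A] [IsRegularLocalRing A] [CommRing B] [IsLocalRing B]
    [Algebra A B] [IsLocalHom (algebraMap A B)] [Algebra.EssFiniteType A B]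
    (hdim : (2 : WithBot ℕ∞) ≤ ringKrullDim B) (het : EtPunctured A B) : Module.Finite A (ResidueField B) := by
  classical
  haveI : IsNoetherianRing B := Algebra.EssFiniteType.isNoetherianRing A B
  let A' := AdicCompletion (maximalIdeal A) A
  haveI : IsRegularLocalRing A' := H02CA.isRegularLocalRing_adicCompletion A
  haveI : IsAdicComplete (maximalIdeal A') A' := H02CA.Node.isAdicComplete_completion A
  haveI : Module.Flat A A' := inferInstance
  let κ := ResidueField B
  let ev : A' →ₐ[A] A ⧸ maximalIdeal A := AdicCompletion.evalOneₐ (maximalIdeal A)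
  let ι : (A ⧸ maximalIdeal A) →ₐ[A] κ := Ideal.Quotient.liftₐ _ (Algebra.ofId A κ) fun a ha => by
    show residue B (algebraMap A B a) = 0
    exact (residue_eq_zero_iff _).mpr (map_nonunit _ a ha)
  let T := A' ⊗[A] B
  let φ : T →ₐ[A] κ := Algebra.TensorProduct.productMap (ι.comp ev) (IsScalarTower.toAlgHom A B κ)
  let ρ : B →ₐ[A] T := Algebra.TensorProduct.includeRight
  have hφρ : ∀ b, φ (ρ b) = residue B b := fun b => by
    show Algebra.TensorProduct.productMap _ _ ((1 : A') ⊗ₜ[A] b) = _
    rw [Algebra.TensorProduct.productMap_apply_tmul, map_one, one_mul]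
    rfl
  have hφs : Function.Surjective φ := fun y => by
    obtain ⟨b, rfl⟩ := residue_surjective y
    exact ⟨_, hφρ b⟩
  let n := RingHom.ker φ.toRingHom
  haveI hn : n.IsMaximal := RingHom.ker_isMaximal_of_surjective φ.toRingHom hφs
  let R := Localization.AtPrime n
  have hρn : n.comap ρ.toRingHom = maximalIdeal B := by
    ext b
    show φ (ρ b) = 0 ↔ _
    rw [hφρ, residue_eq_zero_iff]
  letI : Algebra B T := Algebra.TensorProduct.rightAlgebra
  let j : B →+* R := (algebraMap T R).comp ρ.toRingHom
  haveI hj : IsLocalHom j := ⟨fun b hb => by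
    by_contra h
    have h1 : ρ b ∈ n := (hρn.ge ((mem_maximalIdeal _).mpr h) : _)
    exact (IsLocalization.AtPrime.isUnit_to_map_iff R n _).mp hb h1⟩
  haveI : Algebra.EssFiniteType A' R := Algebra.EssFiniteType.comp A' T R
  haveI : IsNoetherianRing R := Algebra.EssFiniteType.isNoetherianRing A' R
  have hres : ∀ a : A', ∃ a₀ : A, a - algebraMap A A' a₀ ∈ (maximalIdeal A).map (algebraMap A A') := fun a => by
    obtain ⟨a₀, ha₀⟩ := Ideal.Quotient.mk_surjective (ev a)
    refine ⟨a₀, ?_⟩
    rw [← AdicCompletion.ker_evalOneₐ_eq_map _ (IsNoetherian.noetherian _)]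
    show ev (a - algebraMap A A' a₀) = 0
    rw [map_sub, AlgHom.commutes, ← ha₀, Ideal.Quotient.algebraMap_eq, sub_self]
  have hnN : n ≤ (maximalIdeal B).map ρ.toRingHom := by
    let N := (maximalIdeal B).map ρ.toRingHom
    have hNn : N ≤ n := Ideal.map_le_iff_le_comap.mpr hρn.ge
    have hmA : (maximalIdeal A).map (algebraMap A T) ≤ N := Ideal.map_le_iff_le_comap.mpr fun c hc => by
      show algebraMap A T c ∈ N
      rw [← ρ.commutes]
      exact Ideal.mem_map_of_mem ρ.toRingHom (map_nonunit _ c hc)
    have hmod : ∀ z : T, ∃ b : B, z - ρ b ∈ N := by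
      intro z
      induction z using TensorProduct.induction_on with
      | zero => exact ⟨0, by simp⟩
      | add u v hu hv =>
        obtain ⟨b, hb⟩ := hu
        obtain ⟨c, hc⟩ := hv
        exact ⟨b + c, by rw [map_add, add_sub_add_comm]; exact N.add_mem hb hc⟩
      | tmul a b =>
        obtain ⟨a₀, ha₀⟩ := hres a
        refine ⟨a₀ • b, ?_⟩
        have h3 : a ⊗ₜ[A] b - ρ (a₀ • b) = algebraMap A' T (a - algebraMap A A' a₀) * ρ b := by
          show a ⊗ₜ[A] b - (1 : A') ⊗ₜ[A] (a₀ • b) = ((a - algebraMap A A' a₀) ⊗ₜ[A] (1 : B)) * ((1 : A') ⊗ₜ[A] b)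
          rw [Algebra.TensorProduct.tmul_mul_tmul, one_mul, mul_one, sub_tmul, tmul_smul,
            Algebra.algebraMap_eq_smul_one, smul_tmul']
        rw [h3]
        refine N.mul_mem_right _ ?_
        have h2 : (maximalIdeal A).map (algebraMap A A') ≤ N.comap (algebraMap A' T) := by
          rw [← Ideal.map_le_iff_le_comap, Ideal.map_map, ← IsScalarTower.algebraMap_eq]
          exact hmA
        exact h2 ha₀
    intro z hz
    obtain ⟨b, hb⟩ := hmod z
    have hb' : ρ b ∈ n := by
      have := n.sub_mem hz (hNn hb)
      rwa [sub_sub_cancel] at this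
    have := N.add_mem hb (Ideal.mem_map_of_mem ρ.toRingHom (hρn.le hb' : b ∈ maximalIdeal B))
    rwa [show z - ρ b + ρ.toRingHom b = z from sub_add_cancel z (ρ b)] at this
  haveI : IsScalarTower A B R := IsScalarTower.of_algebraMap_eq fun c => by
    show algebraMap A R c = algebraMap T R (ρ (algebraMap A B c))
    rw [ρ.commutes, ← IsScalarTower.algebraMap_apply]
  -- flatness over `B` and the dimension
  haveI : Module.Flat B R := by
    haveI : Algebra.IsPushout A B A' T := inferInstance
    haveI : Module.Flat B T := Module.Flat.of_linearEquiv (Algebra.IsPushout.equiv A B A' T).symm.toLinearEquiv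
    haveI : Module.Flat T R := IsLocalization.flat R n.primeCompl
    exact Module.Flat.trans B T R
  haveI : IsLocalHom (algebraMap B R) := hj
  have hdimR : ringKrullDim R = ringKrullDim B := by
    refine H18Et.ringKrullDim_eq_of_map_maximalIdeal B R (le_antisymm (map_maximalIdeal_le _) ?_)
    rw [← IsLocalization.AtPrime.map_eq_maximalIdeal n R]
    show n.map (algebraMap T R) ≤ (maximalIdeal B).map ((algebraMap T R).comp ρ.toRingHom)
    rw [← Ideal.map_map]
    exact Ideal.map_mono hnN
  obtain ⟨d, hd⟩ := H22Alg.exists_nat_ringKrullDim' R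
  have hd2 : 2 ≤ d := by
    rw [← hdimR, hd] at hdim
    exact_mod_cast hdim
  haveI : IsLocalHom (algebraMap A' R) := ⟨fun a ha => by
    by_contra h
    obtain ⟨a₀, ha₀⟩ := hres a
    have hmax : (maximalIdeal A).map (algebraMap A A') ≤ maximalIdeal A' := map_maximalIdeal_le _
    have h0 : a₀ ∈ maximalIdeal A := by
      rw [← maximalIdeal_comap (algebraMap A A'), Ideal.mem_comap]
      have := (maximalIdeal A').sub_mem ((mem_maximalIdeal _).mpr h) (hmax ha₀)
      rwa [sub_sub_cancel] at this
    have h1 : a ∈ (maximalIdeal A).map (algebraMap A A') := by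
      have := Ideal.add_mem _ ha₀ (Ideal.mem_map_of_mem (algebraMap A A') h0)
      rwa [sub_add_cancel] at this
    have h2 : ((maximalIdeal A).map (algebraMap A A')).map (algebraMap A' R) ≤ maximalIdeal R := by
      rw [Ideal.map_map, ← IsScalarTower.algebraMap_eq, IsScalarTower.algebraMap_eq A B R, ← Ideal.map_map]
      exact (Ideal.map_mono (map_maximalIdeal_le _)).trans (map_maximalIdeal_le _)
    exact (mem_maximalIdeal _).mp (h2 (Ideal.mem_map_of_mem _ h1)) ha⟩
  have hetR : EtPunctured A' R := fun Q _ hQ => by
    let p : Ideal T := Q.comap (algebraMap T R)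
    have hq : p.comap ρ.toRingHom ≠ maximalIdeal B := fun h => hQ (by
      have h1 : n ≤ p := hnN.trans (Ideal.map_le_iff_le_comap.mpr h.ge)
      have h2 : n = p := hn.eq_of_le (Ideal.IsPrime.ne_top inferInstance) h1
      rw [← IsLocalization.map_comap n.primeCompl R Q, Ideal.under]
      show p.map _ = _
      rw [← h2, IsLocalization.AtPrime.map_eq_maximalIdeal])
    obtain ⟨_, _⟩ := het (p.comap ρ.toRingHom) hq
    obtain ⟨_, _⟩ := flat_unramified_baseChange A' (p.comap ρ.toRingHom) p rfl
    haveI : IsLocalization.AtPrime (Localization.AtPrime Q) p :=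
      IsLocalization.isLocalization_isLocalization_atPrime_isLocalization n.primeCompl (Localization.AtPrime Q) Q
    let e : Localization.AtPrime p ≃ₐ[A'] Localization.AtPrime Q :=
      (IsLocalization.algEquiv p.primeCompl (Localization.AtPrime p) (Localization.AtPrime Q)).restrictScalars A'
    exact ⟨Module.Flat.of_linearEquiv e.symm.toLinearEquiv,
      Algebra.FormallyUnramified.of_equiv (A := Localization.AtPrime p) e⟩
  haveI : Module.Finite A' (ResidueField R) := finite_residueField_complete d hd hd2 hetR
  haveI : Module.Finite (ResidueField A') (ResidueField R) :=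
    Module.Finite.of_restrictScalars_finite A' (ResidueField A') (ResidueField R)
  have hsurj : Function.Surjective (Algebra.linearMap A (ResidueField A')) := fun y => by
    obtain ⟨a, rfl⟩ := residue_surjective y
    obtain ⟨a₀, ha₀⟩ := hres a
    refine ⟨a₀, ?_⟩
    show residue A' (algebraMap A A' a₀) = residue A' a
    exact (sub_eq_zero.mp (by rw [← map_sub, residue_eq_zero_iff]; exact (map_maximalIdeal_le (algebraMap A A')) ha₀)).symm
  haveI : Module.Finite A (ResidueField A') := Module.Finite.of_surjective _ hsurj
  exact finite_residueField_of_algHom (IsScalarTower.toAlgHom A B R) hj (Module.Finite.trans (ResidueField A') (ResidueField R))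

end Groth.Agent.H18Pur.Ram
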