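import Mathlib
import Groth.Agent.H18Pur.Ram.Cut
import Groth.Agent.H18Et.PurityFlat
import Groth.Agent.H24Adic.Basic
import Groth.Agent.H24Adic.CompletionNoetherian

/-!
# Purity for flat quasi-finite local homomorphisms
-/

set_option autoImplicit false
set_option backward.isDefEq.respectTransparency false

universe u

open IsLocalRing TensorProduct

namespace Groth.Agent.H18Pur.Ram

/-- A prime strictly between `p` and the maximal ideal containing a given element. -/
theorem exists_prime_between {R : Type u} [CommRing R] [IsNoetherianRing R] [IsLocalRing R] (p : Ideal R) [p.IsPrime]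
    (hp : (2 : WithBot ℕ∞) ≤ ringKrullDim (R ⧸ p)) (d : R) (hd : d ∈ maximalIdeal R) :
    ∃ P : Ideal R, P.IsPrime ∧ p < P ∧ P < maximalIdeal R ∧ d ∈ P := by
  haveI : IsLocalRing (R ⧸ p) := .of_surjective' (Ideal.Quotient.mk p) Ideal.Quotient.mk_surjective
  haveI := IsLocalHom.of_surjective (Ideal.Quotient.mk p) Ideal.Quotient.mk_surjective
  have key : ∀ b ∈ maximalIdeal R, b ∉ p → ∃ P : Ideal R, P.IsPrime ∧ p < P ∧ P < maximalIdeal R ∧ b ∈ P := by
    intro b hb hbp
    obtain ⟨P', hP'⟩ := Ideal.nonempty_minimalPrimes (I := Ideal.span {Ideal.Quotient.mk p b}) (by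
      rw [Ne, Ideal.span_singleton_eq_top]
      exact (mem_maximalIdeal _).mp (map_nonunit (Ideal.Quotient.mk p) b hb))
    haveI := hP'.1.1
    have hbP : b ∈ P'.comap (Ideal.Quotient.mk p) := hP'.1.2 (Ideal.mem_span_singleton_self _)
    refine ⟨P'.comap (Ideal.Quotient.mk p), inferInstance, ?_, ?_, hbP⟩
    · refine lt_of_le_of_ne (fun x hx => ?_) fun h => hbp (h.ge hbP)
      rw [Ideal.mem_comap, Ideal.Quotient.eq_zero_iff_mem.mpr hx]
      exact zero_mem P'
    · refine lt_of_le_of_ne (le_maximalIdeal (Ideal.IsPrime.ne_top inferInstance)) fun h => ?_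
      have hP'' : P' = maximalIdeal (R ⧸ p) := by
        rw [← Ideal.map_comap_of_surjective _ Ideal.Quotient.mk_surjective P', h,
          map_maximalIdeal_of_surjective _ Ideal.Quotient.mk_surjective]
      have h1 := Ideal.height_le_one_of_isPrincipal_of_mem_minimalPrimes _ P' hP'
      rw [hP''] at h1
      rw [← maximalIdeal_height_eq_ringKrullDim] at hp
      exact absurd (hp.trans (WithBot.coe_le_coe.mpr h1)) (by decide)
  by_cases hdp : d ∈ p
  · obtain ⟨b, hb, hbp⟩ : ∃ b ∈ maximalIdeal R, b ∉ p := by
      by_contra h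
      push Not at h
      have hpm : p = maximalIdeal R := le_antisymm (le_maximalIdeal (Ideal.IsPrime.ne_top inferInstance)) h
      haveI : p.IsMaximal := hpm ▸ maximalIdeal.isMaximal R
      rw [ringKrullDim_eq_zero_of_isField ((Ideal.Quotient.maximal_ideal_iff_isField_quotient p).mp ‹_›)] at hp
      exact absurd hp (by decide)
    obtain ⟨P, hP, h1, h2, -⟩ := key b hb hbp
    exact ⟨P, hP, h1, h2, h1.le hdp⟩
  · exact key d hd hdp

/-- If `p < q < 𝔪` in a local extension with `𝔪_B R = 𝔪_R` then there is a prime strictly between the trace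
of `p` and the maximal ideal. -/
theorem exists_prime_gt_of_chain {B R : Type u} [CommRing B] [IsNoetherianRing B] [IsLocalRing B] [CommRing R]
    [IsNoetherianRing R] [IsLocalRing R] [Algebra B R] (hm : (maximalIdeal B).map (algebraMap B R) = maximalIdeal R)
    (p q : Ideal R) [p.IsPrime] [q.IsPrime] (hpq : p < q) (hq : q < maximalIdeal R) :
    ∃ Q' : Ideal B, Q'.IsPrime ∧ p.comap (algebraMap B R) < Q' ∧ Q' < maximalIdeal B := by
  by_contra hcon
  push Not at hcon
  obtain ⟨b, hb, hbp⟩ : ∃ b ∈ maximalIdeal B, b ∉ p.comap (algebraMap B R) := by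
    by_contra h
    push Not at h
    have : maximalIdeal R ≤ p := hm ▸ Ideal.map_le_iff_le_comap.mpr h
    exact (hpq.trans hq).not_ge this
  haveI : IsLocalRing (R ⧸ p) := .of_surjective' (Ideal.Quotient.mk p) Ideal.Quotient.mk_surjective
  haveI := IsLocalHom.of_surjective (Ideal.Quotient.mk p) Ideal.Quotient.mk_surjective
  let c := Ideal.Quotient.mk p (algebraMap B R b)
  have hbR : algebraMap B R b ∈ maximalIdeal R := hm ▸ Ideal.mem_map_of_mem _ hb
  have hmin : maximalIdeal (R ⧸ p) ∈ (Ideal.span {c}).minimalPrimes := by
    refine ⟨⟨inferInstance, (Ideal.span_singleton_le_iff_mem _).mpr (map_nonunit _ _ hbR)⟩, ?_⟩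
    rintro P' ⟨hP', hcP⟩ -
    let P := P'.comap (Ideal.Quotient.mk p)
    have hle : maximalIdeal B ≤ P.comap (algebraMap B R) := by
      have hb' : b ∈ P.comap (algebraMap B R) := hcP (Ideal.mem_span_singleton_self c)
      have hlt : p.comap (algebraMap B R) < P.comap (algebraMap B R) := by
        refine lt_of_le_of_ne (Ideal.comap_mono fun x hx => ?_) fun h => hbp (h.ge hb')
        rw [Ideal.mem_comap, Ideal.Quotient.eq_zero_iff_mem.mpr hx]
        exact zero_mem P'
      haveI := hP'
      haveI : (P.comap (algebraMap B R)).IsPrime := Ideal.IsPrime.comap _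
      have h1 := hcon (P.comap (algebraMap B R)) inferInstance hlt
      by_contra h2
      exact h1 (lt_of_le_of_ne (le_maximalIdeal (Ideal.IsPrime.ne_top inferInstance)) fun h3 => h2 h3.ge)
    have hP : maximalIdeal R ≤ P := hm ▸ Ideal.map_le_iff_le_comap.mpr hle
    intro x hx
    obtain ⟨x, rfl⟩ := Ideal.Quotient.mk_surjective x
    exact hP ((mem_maximalIdeal _).mpr fun hu => (mem_maximalIdeal _).mp hx (hu.map _))
  have h1 := Ideal.height_le_one_of_isPrincipal_of_mem_minimalPrimes _ _ hmin
  let q' := q.map (Ideal.Quotient.mk p)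
  haveI : q'.IsPrime := Ideal.map_isPrime_of_surjective Ideal.Quotient.mk_surjective (by rw [Ideal.mk_ker]; exact hpq.le)
  have hq' : q'.comap (Ideal.Quotient.mk p) = q := by
    rw [Ideal.comap_map_of_surjective _ Ideal.Quotient.mk_surjective, ← RingHom.ker_eq_comap_bot, Ideal.mk_ker,
      sup_eq_left.mpr hpq.le]
  have h0 : (⊥ : Ideal (R ⧸ p)) < q' := bot_lt_iff_ne_bot.mpr fun h => hpq.ne (by
    rw [← hq', h, ← RingHom.ker_eq_comap_bot, Ideal.mk_ker])
  have h2 : q' < maximalIdeal (R ⧸ p) := lt_of_le_of_ne (le_maximalIdeal (Ideal.IsPrime.ne_top inferInstance))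
    fun h => hq.ne (by
      rw [← hq', h]
      haveI := IsLocalHom.of_surjective (Ideal.Quotient.mk p) Ideal.Quotient.mk_surjective
      exact maximalIdeal_comap _)
  haveI : (⊥ : Ideal (R ⧸ p)).IsPrime := Ideal.isPrime_bot
  have h3 := Ideal.height_strict_mono_of_isPrime h0
  have h4 := Ideal.height_strict_mono_of_isPrime h2
  have h5 : q'.height < 1 := h4.trans_le h1
  rw [ENat.lt_one_iff_eq_zero.mp h5] at h3
  exact not_lt_zero h3

/-- Formal unramifiedness passes to generisations. -/
theorem formallyUnramified_of_le {A B : Type u} [CommRing A] [CommRing B] [Algebra A B] {Q Q' : Ideal B}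
    [Q.IsPrime] [Q'.IsPrime] (h : Q ≤ Q') [Algebra.FormallyUnramified A (Localization.AtPrime Q')] :
    Algebra.FormallyUnramified A (Localization.AtPrime Q) := by
  have hle : Q'.primeCompl ≤ Q.primeCompl := fun z hz hzQ => hz (h hzQ)
  let T := Localization.AtPrime Q'
  let f : T →+* Localization.AtPrime Q := IsLocalization.lift (M := Q'.primeCompl)
    (g := algebraMap B (Localization.AtPrime Q)) fun y =>
      IsLocalization.map_units (Localization.AtPrime Q) (⟨y, hle y.2⟩ : Q.primeCompl)
  letI : Algebra T (Localization.AtPrime Q) := f.toAlgebra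
  haveI : IsScalarTower B T (Localization.AtPrime Q) := IsScalarTower.of_algebraMap_eq fun b =>
    (IsLocalization.lift_eq _ b).symm
  haveI : IsScalarTower A T (Localization.AtPrime Q) := IsScalarTower.to₁₃₄ A B _ _
  haveI : IsLocalization (Q.primeCompl.map (algebraMap B T)) (Localization.AtPrime Q) :=
    IsLocalization.isLocalization_of_submonoid_le T _ Q'.primeCompl Q.primeCompl hle
  haveI : Algebra.FormallyUnramified T (Localization.AtPrime Q) :=
    Algebra.FormallyUnramified.of_isLocalization (Q.primeCompl.map (algebraMap B T))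
  exact Algebra.FormallyUnramified.comp A T _

/-- A quasi-finite local algebra over a complete Noetherian local ring is finite. -/
theorem finite_of_quasiFinite_complete {A R : Type u} [CommRing A] [IsNoetherianRing A] [IsLocalRing A]
    [IsAdicComplete (maximalIdeal A) A] [CommRing R] [IsNoetherianRing R] [IsLocalRing R] [Algebra A R]
    [IsLocalHom (algebraMap A R)] [Algebra.QuasiFinite A R] : Module.Finite A R := by
  let I := maximalIdeal A
  let J := I.map (algebraMap A R)
  have hJ : J ≤ maximalIdeal R := map_maximalIdeal_le _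
  haveI : IsHausdorff I R := ⟨fun x hx => by
    have h2 : x ∈ ⨅ k, (maximalIdeal R) ^ k := by
      rw [Submodule.mem_iInf]
      intro k
      have h1 := hx k
      rw [SModEq.zero, Ideal.smul_top_eq_map, Submodule.restrictScalars_mem, Ideal.map_pow] at h1
      exact Ideal.pow_right_mono hJ k h1
    rwa [Ideal.iInf_pow_eq_bot_of_isLocalRing _ (maximalIdeal.isMaximal R).ne_top] at h2⟩
  letI : Algebra (A ⧸ I) (R ⧸ J) := Ideal.Quotient.algebraQuotientOfLEComap Ideal.le_comap_map
  haveI : IsScalarTower A (A ⧸ I) (R ⧸ J) := IsScalarTower.of_algebraMap_eq fun _ => rfl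
  haveI : Algebra.QuasiFinite A (R ⧸ J) := inferInstance
  haveI : Algebra.QuasiFinite (A ⧸ I) (R ⧸ J) := Algebra.QuasiFinite.of_restrictScalars A _ _
  haveI : IsArtinianRing (A ⧸ I) := inferInstanceAs (IsArtinianRing (ResidueField A))
  haveI : Module.Finite (A ⧸ I) (R ⧸ J) := Module.Finite.of_quasiFinite
  haveI : Module.Finite A (R ⧸ J) := Module.Finite.trans (A ⧸ I) (R ⧸ J)
  haveI : Module.Finite A (R ⧸ (I • ⊤ : Submodule A R)) := by
    rw [Ideal.smul_top_eq_map]
    exact Module.Finite.equiv (Submodule.Quotient.restrictScalarsEquiv A J).symm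
  exact H24Adic.finite_of_finite_quotient I

/-- The inductive step, given a complete model. -/
theorem unramified_of_complete_model {A A' B R : Type u} [CommRing A] [IsNoetherianRing A] [IsLocalRing A] [CommRing A']
    [IsNoetherianRing A'] [IsLocalRing A'] [IsAdicComplete (maximalIdeal A') A'] [CommRing B] [IsNoetherianRing B]
    [IsLocalRing B] [CommRing R] [IsNoetherianRing R] [IsLocalRing R] [Algebra A A'] [Algebra A B] [Algebra A R]
    [Algebra A' R] [Algebra B R] [IsScalarTower A A' R] [IsScalarTower A B R] [Module.Flat B R] [Module.Flat A' R]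
    [Algebra.QuasiFinite A' R] [Algebra.EssFiniteType A B] [Algebra.EssFiniteType A' R]
    [IsLocalHom (algebraMap A A')] [IsLocalHom (algebraMap A B)]
    [IsLocalHom (algebraMap A' R)] [IsLocalHom (algebraMap B R)]
    (hmA' : maximalIdeal A' = (maximalIdeal A).map (algebraMap A A'))
    (hres : ∀ a : A', ∃ a₀ : A, a - algebraMap A A' a₀ ∈ (maximalIdeal A).map (algebraMap A A'))
    (hmR : (maximalIdeal B).map (algebraMap B R) = maximalIdeal R)
    (hR : ∀ (q : Ideal R) [q.IsPrime], Algebra.FormallyUnramified A (Localization.AtPrime (q.comap (algebraMap B R))) →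
      Algebra.FormallyUnramified A' (Localization.AtPrime q))
    (hdim : (2 : WithBot ℕ∞) ≤ ringKrullDim B)
    (h : ∀ (Q : Ideal B) [Q.IsPrime], Q ≠ maximalIdeal B → 1 ≤ Q.height →
      Algebra.FormallyUnramified A (Localization.AtPrime Q)) : Algebra.FormallyUnramified A B := by
  classical
  have hdimR : ringKrullDim R = ringKrullDim B := H18Et.ringKrullDim_eq_of_map_maximalIdeal B R hmR
  haveI : IsLocalHom (algebraMap A R) := by
    rw [IsScalarTower.algebraMap_eq A A' R]
    exact RingHom.isLocalHom_comp _ _
  haveI : Module.Finite A' R := finite_of_quasiFinite_complete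
  haveI : Module.Free A' R := Module.free_of_flat_of_isLocalRing
  haveI : Module.FaithfullyFlat A' R := Module.FaithfullyFlat.of_flat_of_isLocalHom
  haveI : Module.FaithfullyFlat B R := Module.FaithfullyFlat.of_flat_of_isLocalHom
  have hinj : Function.Injective (algebraMap A' R) := FaithfulSMul.algebraMap_injective A' R
  haveI : Algebra.IsIntegral A' R := inferInstance
  have hdimA : ringKrullDim A' = ringKrullDim B := ((H05EGA4.dim_int A' R).2 hinj).symm.trans hdimR
  -- the discriminant is a unit
  let b := Module.Free.chooseBasis A' R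
  have het : Algebra.Etale A' R := by
    rw [H18Et.PurityFlat.etale_iff_isUnit_discr b]
    by_contra hd0
    obtain ⟨p₁, hp₁, hp₁dim⟩ := H06EGA14.exists_minimalPrime_dim_eq A'
    haveI : p₁.IsPrime := hp₁.1.1
    obtain ⟨P, hP, hp₁P, hPm, hdP⟩ := exists_prime_between p₁ (by rw [hp₁dim, hdimA]; exact hdim) (Algebra.discr A' b)
      ((mem_maximalIdeal _).mpr hd0)
    haveI := hP
    let S'' := Localization.AtPrime P
    let T'' := Localization (Algebra.algebraMapSubmonoid R P.primeCompl)
    letI : Algebra S'' T'' := localizationAlgebra P.primeCompl R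
    haveI : IsScalarTower A' S'' T'' := IsScalarTower.of_algebraMap_eq fun x => by
      rw [IsScalarTower.algebraMap_apply A' R T'']
      exact (IsLocalization.map_eq (M := P.primeCompl) (T := Algebra.algebraMapSubmonoid R P.primeCompl) (Q := T'')
        (g := algebraMap A' R) _ x).symm
    let b'' := b.localizationLocalization S'' P.primeCompl T''
    haveI : Module.Finite S'' T'' := Module.Finite.of_basis b''
    haveI : Module.Free S'' T'' := Module.Free.of_basis b''
    haveI : Algebra.FiniteType S'' T'' := inferInstance
    haveI : Algebra.FinitePresentation S'' T'' := Algebra.FinitePresentation.of_finiteType.mp inferInstance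
    have het'' : Algebra.Etale S'' T'' := by
      rw [← Algebra.etaleLocus_eq_univ_iff_etale]
      refine Set.eq_univ_of_forall fun Q'' => ?_
      obtain ⟨M, hM, hle⟩ := Ideal.exists_le_maximal Q''.asIdeal Q''.isPrime.ne_top
      refine Algebra.isOpen_etaleLocus.stableUnderGeneralization
        ((PrimeSpectrum.le_iff_specializes Q'' ⟨M, hM.isPrime⟩).mp hle) ?_
      show Algebra.IsEtaleAt S'' M
      haveI := hM
      have hMS : M.comap (algebraMap S'' T'') = maximalIdeal S'' :=
        eq_maximalIdeal (Ideal.isMaximal_comap_of_isIntegral_of_isMaximal M)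
      let q := M.comap (algebraMap R T'')
      haveI : q.IsPrime := Ideal.IsPrime.comap _
      have hqP : q.comap (algebraMap A' R) = P := by
        rw [← IsLocalization.AtPrime.comap_maximalIdeal S'' P, ← hMS, Ideal.under, Ideal.comap_comap, Ideal.comap_comap,
          ← IsScalarTower.algebraMap_eq, ← IsScalarTower.algebraMap_eq]
      haveI : q.LiesOver P := ⟨hqP.symm⟩
      have hqm : q ≠ maximalIdeal R := fun h' => hPm.ne (by
        rw [← hqP, h']
        exact maximalIdeal_comap _)
      obtain ⟨q₁, hq₁q, hq₁, -⟩ := Ideal.exists_ideal_lt_liesOver_of_lt q hp₁P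
      haveI := hq₁
      have hqlt : q < maximalIdeal R := lt_of_le_of_ne (le_maximalIdeal (Ideal.IsPrime.ne_top inferInstance)) hqm
      let Q := q.comap (algebraMap B R)
      haveI : Q.IsPrime := Ideal.IsPrime.comap _
      have hQm : Q ≠ maximalIdeal B := fun h' => hqm (by
        refine le_antisymm hqlt.le ?_
        rw [← hmR]
        exact Ideal.map_le_iff_le_comap.mpr h'.ge)
      haveI huQ : Algebra.FormallyUnramified A (Localization.AtPrime Q) := by
        by_cases hQ1 : 1 ≤ Q.height
        · exact h Q hQm hQ1
        · have hQ0 : Q.height = 0 := ENat.lt_one_iff_eq_zero.mp (not_le.mp hQ1)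
          obtain ⟨Q', hQ', hlt1, hlt2⟩ := exists_prime_gt_of_chain hmR q₁ q hq₁q hqlt
          haveI := hQ'
          have hle' : Q ≤ Q' := by
            have h1 : Q = q₁.comap (algebraMap B R) := by
              by_contra hne
              haveI : (q₁.comap (algebraMap B R)).IsPrime := Ideal.IsPrime.comap _
              have h2 := Ideal.height_strict_mono_of_isPrime
                (lt_of_le_of_ne (Ideal.comap_mono hq₁q.le : q₁.comap (algebraMap B R) ≤ Q) fun h3 => hne h3.symm)
              rw [hQ0] at h2
              exact not_lt_zero h2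
            exact h1 ▸ hlt1.le
          haveI := h Q' hlt2.ne (by
            haveI : (q₁.comap (algebraMap B R)).IsPrime := Ideal.IsPrime.comap _
            exact Order.one_le_iff_pos.mpr (lt_of_le_of_lt bot_le (Ideal.height_strict_mono_of_isPrime hlt1)))
          exact formallyUnramified_of_le hle'
      haveI := hR q huQ
      haveI : IsLocalization.AtPrime (Localization.AtPrime M) q :=
        IsLocalization.isLocalization_isLocalization_atPrime_isLocalization
          (Algebra.algebraMapSubmonoid R P.primeCompl) (Localization.AtPrime M) M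
      haveI : Algebra.FormallyUnramified A' (Localization.AtPrime M) := Algebra.FormallyUnramified.of_equiv
        ((IsLocalization.algEquiv q.primeCompl (Localization.AtPrime q) (Localization.AtPrime M)).restrictScalars A')
      haveI : Algebra.IsUnramifiedAt S'' M := Algebra.FormallyUnramified.of_restrictScalars A' S'' _
      exact Algebra.IsEtaleAt.of_isUnramifiedAt_of_flat M
    rw [H18Et.PurityFlat.etale_iff_isUnit_discr b'', Algebra.discr_localizationLocalization,
      IsLocalization.AtPrime.isUnit_to_map_iff S'' P] at het''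
    exact het'' hdP
  -- descent
  haveI := het
  obtain ⟨hsep, hm'⟩ := Algebra.FormallyUnramified.iff_map_maximalIdeal_eq.mp
    (inferInstance : Algebra.FormallyUnramified A' R)
  rw [Algebra.FormallyUnramified.iff_map_maximalIdeal_eq]
  constructor
  · haveI := hsep
    haveI : IsScalarTower (ResidueField A) (ResidueField A') (ResidueField R) :=
      IsScalarTower.of_algebraMap_eq fun x => by
        obtain ⟨a, rfl⟩ := residue_surjective x
        show residue R (algebraMap A R a) = residue R (algebraMap A' R (algebraMap A A' a))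
        rw [← IsScalarTower.algebraMap_apply]
    haveI : IsScalarTower (ResidueField A) (ResidueField B) (ResidueField R) :=
      IsScalarTower.of_algebraMap_eq fun x => by
        obtain ⟨a, rfl⟩ := residue_surjective x
        show residue R (algebraMap A R a) = residue R (algebraMap B R (algebraMap A B a))
        rw [← IsScalarTower.algebraMap_apply]
    haveI : Algebra.IsSeparable (ResidueField A) (ResidueField A') := ⟨fun y => by
      obtain ⟨a, rfl⟩ := residue_surjective y
      obtain ⟨a₀, ha₀⟩ := hres a
      have : residue A' a = algebraMap (ResidueField A) (ResidueField A') (residue A a₀) := by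
        show residue A' a = residue A' (algebraMap A A' a₀)
        exact sub_eq_zero.mp (by rw [← map_sub, residue_eq_zero_iff, hmA']; exact ha₀)
      rw [this]
      exact isSeparable_algebraMap _⟩
    haveI : Algebra.IsSeparable (ResidueField A) (ResidueField R) :=
      Algebra.IsSeparable.trans (ResidueField A) (ResidueField A') (ResidueField R)
    exact Algebra.isSeparable_tower_bot_of_isSeparable (ResidueField A) (ResidueField B) (ResidueField R)
  · rw [hmA', Ideal.map_map, ← IsScalarTower.algebraMap_eq, IsScalarTower.algebraMap_eq A B R, ← Ideal.map_map,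
      ← hmR] at hm'
    rw [← Ideal.comap_map_eq_self_of_faithfullyFlat (B := R) ((maximalIdeal A).map (algebraMap A B)), hm',
      Ideal.comap_map_eq_self_of_faithfullyFlat]

/-- Formal unramifiedness at a prime of a localization of a base change. -/
theorem unramifiedAt_localization_baseChange {A A' B R : Type u} [CommRing A] [CommRing A'] [CommRing B] [CommRing R]
    [Algebra A A'] [Algebra A B] [Module.Flat A B] (n : Ideal (A' ⊗[A] B)) [n.IsPrime] [Algebra (A' ⊗[A] B) R]
    [IsLocalization.AtPrime R n] [Algebra A' R] [IsScalarTower A' (A' ⊗[A] B) R] [Algebra B R]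
    (hBR : algebraMap B R = (algebraMap (A' ⊗[A] B) R).comp (Algebra.TensorProduct.includeRight : B →ₐ[A] A' ⊗[A] B).toRingHom)
    (q : Ideal R) [q.IsPrime] (hu : Algebra.FormallyUnramified A (Localization.AtPrime (q.comap (algebraMap B R)))) :
    Algebra.FormallyUnramified A' (Localization.AtPrime q) := by
  let p : Ideal (A' ⊗[A] B) := q.comap (algebraMap (A' ⊗[A] B) R)
  have e' : q.comap (algebraMap B R) = p.comap (Algebra.TensorProduct.includeRight : B →ₐ[A] A' ⊗[A] B).toRingHom := by rw [Ideal.comap_comap, ← hBR]
  have key : ∀ (I : Ideal B) [I.IsPrime], I = p.comap (Algebra.TensorProduct.includeRight : B →ₐ[A] A' ⊗[A] B).toRingHom →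
      Algebra.FormallyUnramified A (Localization.AtPrime I) →
      Algebra.FormallyUnramified A (Localization.AtPrime (p.comap (Algebra.TensorProduct.includeRight : B →ₐ[A] A' ⊗[A] B).toRingHom)) := by
    intro I _ hI h
    subst hI
    exact h
  haveI := key _ e' hu
  haveI : Module.Flat A (Localization.AtPrime (p.comap (Algebra.TensorProduct.includeRight : B →ₐ[A] A' ⊗[A] B).toRingHom)) :=
    Module.Flat.trans A B _
  obtain ⟨-, _⟩ := flat_unramified_baseChange A' (p.comap (Algebra.TensorProduct.includeRight : B →ₐ[A] A' ⊗[A] B).toRingHom) p rfl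
  haveI : IsLocalization.AtPrime (Localization.AtPrime q) p :=
    IsLocalization.isLocalization_isLocalization_atPrime_isLocalization n.primeCompl (Localization.AtPrime q) q
  let e : Localization.AtPrime p ≃ₐ[A'] Localization.AtPrime q :=
    (IsLocalization.algEquiv p.primeCompl (Localization.AtPrime p) (Localization.AtPrime q)).restrictScalars A'
  exact Algebra.FormallyUnramified.of_equiv (A := Localization.AtPrime p) e

/-- The inductive step. -/
theorem unramified_of_punctured {A B : Type u} [CommRing A] [IsNoetherianRing A] [IsLocalRing A] [CommRing B]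
    [IsLocalRing B] [Algebra A B] [IsLocalHom (algebraMap A B)] [Algebra.EssFiniteType A B]
    [Algebra.QuasiFinite A B] [Module.Flat A B] (hdim : (2 : WithBot ℕ∞) ≤ ringKrullDim B)
    (h : ∀ (Q : Ideal B) [Q.IsPrime], Q ≠ maximalIdeal B → 1 ≤ Q.height →
      Algebra.FormallyUnramified A (Localization.AtPrime Q)) : Algebra.FormallyUnramified A B := by
  classical
  haveI : IsNoetherianRing B := Algebra.EssFiniteType.isNoetherianRing A B
  let A' := AdicCompletion (maximalIdeal A) A
  haveI : IsNoetherianRing A' := H24Adic.isNoetherianRing_adicCompletion _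
  haveI : IsAdicComplete (maximalIdeal A') A' := H02CA.Node.isAdicComplete_completion A
  haveI : Module.Flat A A' := inferInstance
  let κ := ResidueField B
  let ev : A' →ₐ[A] A ⧸ maximalIdeal A := AdicCompletion.evalOneₐ (maximalIdeal A)
  let ι : (A ⧸ maximalIdeal A) →ₐ[A] κ := Ideal.Quotient.liftₐ _ (Algebra.ofId A κ) fun a ha => by
    show residue B (algebraMap A B a) = 0
    exact (residue_eq_zero_iff _).mpr (map_nonunit _ a ha)
  let T := A' ⊗[A] B
  let φ : T →ₐ[A] κ := Algebra.TensorProduct.productMap (ι.comp ev) (IsScalarTower.toAlgHom A B κ)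
  let ρ : B →ₐ[A] T := Algebra.TensorProduct.includeRight
  have hφρ : ∀ b, φ (ρ b) = residue B b := fun b => by
    show Algebra.TensorProduct.productMap _ _ ((1 : A') ⊗ₜ[A] b) = _
    rw [Algebra.TensorProduct.productMap_apply_tmul, map_one, one_mul]
    rfl
  have hφs : Function.Surjective φ := fun y => by
    obtain ⟨b, rfl⟩ := residue_surjective y
    exact ⟨_, hφρ b⟩
  let n := RingHom.ker φ.toRingHom
  haveI hn : n.IsMaximal := RingHom.ker_isMaximal_of_surjective φ.toRingHom hφs
  let R := Localization.AtPrime n
  have hρn : n.comap ρ.toRingHom = maximalIdeal B := by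
    ext b
    show φ (ρ b) = 0 ↔ _
    rw [hφρ, residue_eq_zero_iff]
  letI : Algebra B T := Algebra.TensorProduct.rightAlgebra
  let j : B →+* R := (algebraMap T R).comp ρ.toRingHom
  haveI hj : IsLocalHom j := ⟨fun b hb => by
    by_contra h
    have h1 : ρ b ∈ n := (hρn.ge ((mem_maximalIdeal _).mpr h) : _)
    exact (IsLocalization.AtPrime.isUnit_to_map_iff R n _).mp hb h1⟩
  haveI : Algebra.EssFiniteType A' R := Algebra.EssFiniteType.comp A' T R
  haveI : IsNoetherianRing R := Algebra.EssFiniteType.isNoetherianRing A' R
  have hres : ∀ a : A', ∃ a₀ : A, a - algebraMap A A' a₀ ∈ (maximalIdeal A).map (algebraMap A A') := fun a => by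
    obtain ⟨a₀, ha₀⟩ := Ideal.Quotient.mk_surjective (ev a)
    refine ⟨a₀, ?_⟩
    rw [← AdicCompletion.ker_evalOneₐ_eq_map _ (IsNoetherian.noetherian _)]
    show ev (a - algebraMap A A' a₀) = 0
    rw [map_sub, AlgHom.commutes, ← ha₀, Ideal.Quotient.algebraMap_eq, sub_self]
  have hnN : n ≤ (maximalIdeal B).map ρ.toRingHom := by
    let N := (maximalIdeal B).map ρ.toRingHom
    have hNn : N ≤ n := Ideal.map_le_iff_le_comap.mpr hρn.ge
    have hmA : (maximalIdeal A).map (algebraMap A T) ≤ N := Ideal.map_le_iff_le_comap.mpr fun c hc => by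
      show algebraMap A T c ∈ N
      rw [← ρ.commutes]
      exact Ideal.mem_map_of_mem ρ.toRingHom (map_nonunit _ c hc)
    have hmod : ∀ z : T, ∃ b : B, z - ρ b ∈ N := by
      intro z
      induction z using TensorProduct.induction_on with
      | zero => exact ⟨0, by simp⟩
      | add u v hu hv =>
        obtain ⟨b, hb⟩ := hu
        obtain ⟨c, hc⟩ := hv
        exact ⟨b + c, by rw [map_add, add_sub_add_comm]; exact N.add_mem hb hc⟩
      | tmul a b =>
        obtain ⟨a₀, ha₀⟩ := hres a
        refine ⟨a₀ • b, ?_⟩
        have h3 : a ⊗ₜ[A] b - ρ (a₀ • b) = algebraMap A' T (a - algebraMap A A' a₀) * ρ b := by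
          show a ⊗ₜ[A] b - (1 : A') ⊗ₜ[A] (a₀ • b) = ((a - algebraMap A A' a₀) ⊗ₜ[A] (1 : B)) * ((1 : A') ⊗ₜ[A] b)
          rw [Algebra.TensorProduct.tmul_mul_tmul, one_mul, mul_one, sub_tmul, tmul_smul,
            Algebra.algebraMap_eq_smul_one, smul_tmul']
        rw [h3]
        refine N.mul_mem_right _ ?_
        have h2 : (maximalIdeal A).map (algebraMap A A') ≤ N.comap (algebraMap A' T) := by
          rw [← Ideal.map_le_iff_le_comap, Ideal.map_map, ← IsScalarTower.algebraMap_eq]
          exact hmA
        exact h2 ha₀
    intro z hz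
    obtain ⟨b, hb⟩ := hmod z
    have hb' : ρ b ∈ n := by
      have := n.sub_mem hz (hNn hb)
      rwa [sub_sub_cancel] at this
    have := N.add_mem hb (Ideal.mem_map_of_mem ρ.toRingHom (hρn.le hb' : b ∈ maximalIdeal B))
    rwa [show z - ρ b + ρ.toRingHom b = z from sub_add_cancel z (ρ b)] at this
  haveI : IsScalarTower A B R := IsScalarTower.of_algebraMap_eq fun c => by
    show algebraMap A R c = algebraMap T R (ρ (algebraMap A B c))
    rw [ρ.commutes, ← IsScalarTower.algebraMap_apply]
  haveI : Module.Flat B R := by
    haveI : Algebra.IsPushout A B A' T := inferInstance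
    haveI : Module.Flat B T := Module.Flat.of_linearEquiv (Algebra.IsPushout.equiv A B A' T).symm.toLinearEquiv
    haveI : Module.Flat T R := IsLocalization.flat R n.primeCompl
    exact Module.Flat.trans B T R
  haveI : IsLocalHom (algebraMap B R) := hj
  have hmR : (maximalIdeal B).map (algebraMap B R) = maximalIdeal R := by
    refine le_antisymm (map_maximalIdeal_le _) ?_
    rw [← IsLocalization.AtPrime.map_eq_maximalIdeal n R]
    show n.map (algebraMap T R) ≤ (maximalIdeal B).map ((algebraMap T R).comp ρ.toRingHom)
    rw [← Ideal.map_map]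
    exact Ideal.map_mono hnN
  have hmA' : maximalIdeal A' = (maximalIdeal A).map (algebraMap A A') := AdicCompletion.maximalIdeal_eq_map
  have hAR : (maximalIdeal A').map (algebraMap A' R) ≤ maximalIdeal R := by
    rw [hmA', Ideal.map_map, ← IsScalarTower.algebraMap_eq, IsScalarTower.algebraMap_eq A B R, ← Ideal.map_map]
    exact (Ideal.map_mono (map_maximalIdeal_le _)).trans (map_maximalIdeal_le _)
  haveI : IsLocalHom (algebraMap A' R) := ⟨fun a ha => by
    by_contra h
    exact (mem_maximalIdeal _).mp (hAR (Ideal.mem_map_of_mem _ ((mem_maximalIdeal _).mpr h))) ha⟩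
  haveI : Module.Flat A' T := inferInstance
  haveI : Module.Flat T R := IsLocalization.flat R n.primeCompl
  haveI : Module.Flat A' R := Module.Flat.trans A' T R
  haveI : Algebra.QuasiFinite A' T := inferInstance
  haveI : Algebra.QuasiFinite A' R := Algebra.QuasiFinite.of_isLocalization n.primeCompl
  haveI : IsLocalHom (algebraMap A A') := ⟨fun a ha => by
    by_contra h'
    exact (mem_maximalIdeal _).mp (hmA'.ge (Ideal.mem_map_of_mem _ ((mem_maximalIdeal _).mpr h'))) ha⟩
  exact unramified_of_complete_model (A' := A') (R := R) hmA' hres hmR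
    (fun q _ hu => unramifiedAt_localization_baseChange n rfl q hu) hdim h

/-- Flat, quasi-finite and unramified in height one implies unramified. -/
theorem unramified_of_flat_quasiFinite : ∀ (d : ℕ) {A B : Type u} [CommRing A] [IsNoetherianRing A] [IsLocalRing A]
    [CommRing B] [IsLocalRing B] [Algebra A B] [IsLocalHom (algebraMap A B)] [Algebra.EssFiniteType A B]
    [Algebra.QuasiFinite A B] [Module.Flat A B], ringKrullDim B = d → 1 ≤ d →
    (∀ (Q : Ideal B) [Q.IsPrime], Q.height = 1 → Algebra.FormallyUnramified A (Localization.AtPrime Q)) →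
    Algebra.FormallyUnramified A B := by
  intro d
  induction d using Nat.strong_induction_on with
  | _ d ih =>
  intro A B _ _ _ _ _ _ _ _ _ _ hd hd1 h1
  haveI : IsNoetherianRing B := Algebra.EssFiniteType.isNoetherianRing A B
  have hmh : (maximalIdeal B).height = d := by
    have := hd
    rw [← maximalIdeal_height_eq_ringKrullDim] at this
    exact WithBot.coe_injective this
  rcases Nat.lt_or_ge d 2 with hlt | hge
  · obtain rfl : d = 1 := by omega
    haveI := h1 (maximalIdeal B) (by exact_mod_cast hmh)
    let e : B ≃ₐ[B] Localization.AtPrime (maximalIdeal B) :=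
      IsLocalization.atUnits B (maximalIdeal B).primeCompl fun x hx => not_not.mp fun h => hx ((mem_maximalIdeal _).mpr h)
    exact Algebra.FormallyUnramified.of_equiv (e.restrictScalars A).symm
  · refine unramified_of_punctured (by rw [hd]; exact_mod_cast hge) fun Q _ hQ hQ1 => ?_
    let p := Q.comap (algebraMap A B)
    haveI : Q.LiesOver p := ⟨rfl⟩
    letI := Localization.AtPrime.algebraOfLiesOver p Q
    haveI : IsNoetherianRing (Localization.AtPrime p) := IsLocalization.isNoetherianRing p.primeCompl _ inferInstance
    haveI : Algebra.EssFiniteType A (Localization.AtPrime Q) := Algebra.EssFiniteType.comp A B _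
    haveI : Algebra.EssFiniteType (Localization.AtPrime p) (Localization.AtPrime Q) :=
      Algebra.EssFiniteType.of_comp A _ _
    haveI : Algebra.QuasiFinite (Localization.AtPrime p) (Localization.AtPrime Q) :=
      Algebra.QuasiFinite.of_restrictScalars A _ _
    haveI : Module.Flat A (Localization.AtPrime Q) := Module.Flat.trans A B _
    haveI : Module.Flat (Localization.AtPrime p) (Localization.AtPrime Q) :=
      (Module.flat_iff_of_isLocalization (Localization.AtPrime p) p.primeCompl _).mpr inferInstance
    have hQlt : Q < maximalIdeal B := lt_of_le_of_ne (le_maximalIdeal (Ideal.IsPrime.ne_top inferInstance)) hQ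
    have hhlt : Q.height < d := hmh ▸ Ideal.height_strict_mono_of_isPrime hQlt
    obtain ⟨k, hk⟩ := ENat.ne_top_iff_exists.mp hhlt.ne_top
    have hkd : k < d := by exact_mod_cast (hk ▸ hhlt : (k : ℕ∞) < d)
    have hk1 : 1 ≤ k := by exact_mod_cast (hk ▸ hQ1 : (1 : ℕ∞) ≤ k)
    haveI := ih k hkd (A := Localization.AtPrime p) (B := Localization.AtPrime Q)
      (by rw [IsLocalization.AtPrime.ringKrullDim_eq_height Q (Localization.AtPrime Q), ← hk]; rfl) hk1
      (fun R' _ hR' => by
        let Q' := R'.comap (algebraMap B (Localization.AtPrime Q))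
        have hh : Q'.height = 1 := (IsLocalization.height_comap Q.primeCompl R').trans hR'
        haveI : IsLocalization.AtPrime (Localization.AtPrime R') Q' :=
          IsLocalization.isLocalization_isLocalization_atPrime_isLocalization Q.primeCompl (Localization.AtPrime R') R'
        haveI : IsScalarTower A B (Localization.AtPrime R') := IsScalarTower.of_algebraMap_eq fun a => by
          rw [IsScalarTower.algebraMap_apply A (Localization.AtPrime Q) (Localization.AtPrime R'),
            IsScalarTower.algebraMap_apply A B (Localization.AtPrime Q),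
            ← IsScalarTower.algebraMap_apply B (Localization.AtPrime Q) (Localization.AtPrime R')]
        let e : Localization.AtPrime Q' ≃ₐ[A] Localization.AtPrime R' :=
          (IsLocalization.algEquiv Q'.primeCompl _ _).restrictScalars A
        haveI := h1 Q' hh
        haveI : Algebra.FormallyUnramified A (Localization.AtPrime R') := Algebra.FormallyUnramified.of_equiv e
        exact Algebra.FormallyUnramified.of_restrictScalars A _ _)
    haveI : Algebra.FormallyUnramified A (Localization.AtPrime p) :=
      Algebra.FormallyUnramified.of_isLocalization p.primeCompl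
    exact Algebra.FormallyUnramified.comp A (Localization.AtPrime p) _

end Groth.Agent.H18Pur.Ram
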