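import Mathlib
import Groth.Agent.H18Pur.Ram.Cut
import Groth.Agent.H18Pur.QFCore

/-!
# Purity of the ramification locus, local ring form
-/

set_option autoImplicit false
set_option backward.isDefEq.respectTransparency false

universe u

open IsLocalRing TensorProduct

namespace Groth.Agent.H18Pur.Ram

theorem quasiFinite_of_etPunctured {A B : Type u} [CommRing A] [IsNoetherianRing A] [IsLocalRing A] [CommRing B]
    [IsLocalRing B] [Algebra A B] [IsLocalHom (algebraMap A B)] [Algebra.EssFiniteType A B]
    [Module.Finite A (ResidueField B)] (het : EtPunctured A B) : Algebra.QuasiFinite A B := by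
  classical
  haveI : IsNoetherianRing B := Algebra.EssFiniteType.isNoetherianRing A B
  let S := Algebra.EssFiniteType.subalgebra A B
  let nS : Ideal S := (maximalIdeal B).comap (algebraMap S B)
  haveI : IsLocalization.AtPrime B nS := by
    have : Algebra.EssFiniteType.submonoid A B = nS.primeCompl := Submonoid.ext fun t => by
      show IsUnit (algebraMap S B t) ↔ algebraMap S B t ∉ maximalIdeal B
      simp [mem_maximalIdeal, mem_nonunits_iff]
    show IsLocalization nS.primeCompl B
    rw [← this]; infer_instance
  let I := (maximalIdeal A).map (algebraMap A B)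
  have hI : I ≤ maximalIdeal B := map_maximalIdeal_le _
  -- the closed fibre is zero-dimensional
  have hdim : ∀ Q : Ideal B, Q.IsPrime → I ≤ Q → Q = maximalIdeal B := by
    intro Q _ hIQ
    by_contra hQ
    obtain ⟨-, hu⟩ := het Q hQ
    haveI := hu
    let κQ := Q.ResidueField
    have hk : maximalIdeal A ≤ RingHom.ker (algebraMap A κQ) := fun a ha => by
      show algebraMap A κQ a = 0
      rw [IsScalarTower.algebraMap_apply A B κQ, Ideal.algebraMap_residueField_eq_zero]
      exact hIQ (Ideal.mem_map_of_mem _ ha)
    letI : Algebra (ResidueField A) κQ := (Ideal.Quotient.lift (maximalIdeal A) (algebraMap A κQ) hk).toAlgebra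
    haveI : IsScalarTower A (ResidueField A) κQ := IsScalarTower.of_algebraMap_eq fun _ => rfl
    haveI : IsScalarTower A (Localization.AtPrime Q) κQ := IsScalarTower.of_algebraMap_eq fun _ => rfl
    haveI : Algebra.FormallyUnramified (Localization.AtPrime Q) κQ :=
      Algebra.FormallyUnramified.quotient (maximalIdeal (Localization.AtPrime Q))
    haveI : Algebra.FormallyUnramified A κQ := Algebra.FormallyUnramified.comp A (Localization.AtPrime Q) κQ
    haveI : Algebra.EssFiniteType A κQ := Algebra.EssFiniteType.comp A B κQ
    haveI : Algebra.FormallyUnramified (ResidueField A) κQ := Algebra.FormallyUnramified.of_restrictScalars A _ _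
    haveI : Algebra.EssFiniteType (ResidueField A) κQ := Algebra.EssFiniteType.of_comp A _ _
    haveI : Module.Finite (ResidueField A) κQ := Algebra.FormallyUnramified.finite_of_free _ _
    haveI : Module.Finite A κQ := Module.Finite.trans (ResidueField A) κQ
    let φ : S →+* κQ := (algebraMap B κQ).comp (algebraMap S B)
    have hint : φ.IsIntegral := by
      refine RingHom.IsIntegral.tower_top (algebraMap A S) φ ?_
      have : φ.comp (algebraMap A S) = algebraMap A κQ := by
        rw [RingHom.comp_assoc, ← IsScalarTower.algebraMap_eq, ← IsScalarTower.algebraMap_eq]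
      rw [this]
      exact (Algebra.IsIntegral.isIntegral : ∀ y : κQ, IsIntegral A y)
    have hmax := Ideal.isMaximal_comap_of_isIntegral_of_isMaximal' φ hint ⊥
    have hq : (⊥ : Ideal κQ).comap φ = Q.comap (algebraMap S B) := by
      rw [← Ideal.comap_comap, ← RingHom.ker_eq_comap_bot, Ideal.ker_algebraMap_residueField]
    rw [hq] at hmax
    have hle : Q.comap (algebraMap S B) ≤ nS := Ideal.comap_mono (le_maximalIdeal (Ideal.IsPrime.ne_top inferInstance))
    have heq : Q.comap (algebraMap S B) = nS := hmax.eq_of_le (Ideal.IsPrime.ne_top inferInstance) hle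
    apply hQ
    rw [← IsLocalization.map_comap nS.primeCompl B Q, Ideal.under, heq,
      IsLocalization.map_comap nS.primeCompl B (maximalIdeal B)]
  -- so it is finite over `A`
  haveI : Nontrivial (B ⧸ I) := Ideal.Quotient.nontrivial_iff.mpr (ne_top_of_le_ne_top (maximalIdeal.isMaximal B).ne_top hI)
  haveI : Module.Finite A (B ⧸ I) := by
    let f : (B ⧸ I) →ₐ[A] ResidueField B := Ideal.Quotient.factorₐ A hI
    refine Module.finite_of_surjective_of_ker_le_nilradical f (Ideal.Quotient.factor_surjective hI) ?_
      (IsNoetherian.noetherian _)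
    intro z hz
    rw [nilradical_eq_sInf, Submodule.mem_sInf]
    intro P' hP
    let P : Ideal (B ⧸ I) := P'
    haveI : P.IsPrime := hP
    show z ∈ P
    obtain ⟨b, rfl⟩ := Ideal.Quotient.mk_surjective z
    have hP' := hdim (P.comap (Ideal.Quotient.mk I)) inferInstance fun x hx => by
      rw [Ideal.mem_comap, Ideal.Quotient.eq_zero_iff_mem.mpr hx]
      exact zero_mem P
    have hb : b ∈ maximalIdeal B := Ideal.Quotient.eq_zero_iff_mem.mp (show f (Ideal.Quotient.mk I b) = 0 from hz)
    exact (hP'.ge hb : _)
  haveI : Algebra.WeaklyQuasiFiniteAt A nS := by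
    rw [Algebra.weaklyQuasiFiniteAt_iff]
    have hmA : nS.under A = maximalIdeal A := by
      show ((maximalIdeal B).comap (algebraMap S B)).comap (algebraMap A S) = _
      rw [Ideal.comap_comap, ← IsScalarTower.algebraMap_eq, maximalIdeal_comap]
    haveI : Algebra.QuasiFinite A (B ⧸ I) := inferInstance
    let e : B ≃ₐ[A] Localization.AtPrime nS :=
      (IsLocalization.algEquiv nS.primeCompl B (Localization.AtPrime nS)).restrictScalars A
    refine (Algebra.QuasiFinite.iff_of_algEquiv (Ideal.quotientEquivAlg I _ e ?_)).mp this
    rw [hmA]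
    show _ = Ideal.map _ (Ideal.map (algebraMap A B) (maximalIdeal A))
    rw [Ideal.map_map]
    exact congrArg (fun f => Ideal.map f (maximalIdeal A)) e.toAlgHom.comp_algebraMap.symm
  haveI : Algebra.QuasiFiniteAt A nS := Algebra.QuasiFiniteAt.of_weaklyQuasiFiniteAt nS
  exact (Algebra.QuasiFinite.iff_of_algEquiv
    ((IsLocalization.algEquiv nS.primeCompl B (Localization.AtPrime nS)).restrictScalars A)).mpr inferInstance

/-- Purity of the ramification locus for local rings. -/
theorem etale_of_height_one : ∀ (d : ℕ) {A B : Type u} [CommRing A] [IsRegularLocalRing A] [CommRing B]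
    [IsLocalRing B] [IsDomain B] [IsIntegrallyClosed B] [Algebra A B] [IsLocalHom (algebraMap A B)]
    [Algebra.EssFiniteType A B], ringKrullDim B = d → 1 ≤ d →
    (∀ (Q : Ideal B) [Q.IsPrime], Q.height = 1 →
      Module.Flat A (Localization.AtPrime Q) ∧ Algebra.FormallyUnramified A (Localization.AtPrime Q)) →
    Module.Flat A B ∧ Algebra.FormallyUnramified A B := by
  intro d
  induction d using Nat.strong_induction_on with
  | _ d ih =>
  intro A B _ _ _ _ _ _ _ _ _ hd hd1 h1
  classical
  haveI : IsNoetherianRing B := Algebra.EssFiniteType.isNoetherianRing A B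
  haveI : IsDomain A := H4Depth.isDomain_of_isRegularLocalRing A
  have hm : maximalIdeal B ≠ ⊥ := fun h0 => by
    rw [ringKrullDim_eq_zero_of_isField (isField_iff_maximalIdeal_eq.mpr h0)] at hd
    have : 0 = d := by exact_mod_cast hd
    omega
  have hmh : (maximalIdeal B).height = d := by
    have := hd
    rw [← maximalIdeal_height_eq_ringKrullDim] at this
    exact WithBot.coe_injective this
  obtain ⟨Q₁, hQ₁p, hQ₁⟩ : ∃ (Q : Ideal B) (_ : Q.IsPrime), Q.height = 1 := by
    obtain ⟨b, hb, hb0⟩ := Submodule.exists_mem_ne_zero_of_ne_bot hm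
    obtain ⟨Q, hQ⟩ := Ideal.nonempty_minimalPrimes (I := Ideal.span {b})
      (by rw [Ne, Ideal.span_singleton_eq_top]; exact (mem_maximalIdeal _).mp hb)
    haveI := hQ.1.1
    refine ⟨Q, inferInstance, le_antisymm (Ideal.height_le_one_of_isPrincipal_of_mem_minimalPrimes _ Q hQ) ?_⟩
    refine Order.one_le_iff_pos.mpr (pos_iff_ne_zero.mpr fun h0 => hb0 ?_)
    rw [Ideal.height_eq_zero_iff_eq_bot] at h0
    exact (Submodule.mem_bot B).mp (h0 ▸ hQ.1.2 (Ideal.mem_span_singleton_self b))
  haveI := hQ₁p
  have hetP : EtPunctured A B := by
    intro Q _ hQ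
    by_cases hQ0 : Q = ⊥
    · obtain ⟨_, _⟩ := h1 Q₁ hQ₁
      have hle : Q₁.primeCompl ≤ Q.primeCompl := fun z hz hzQ => hz (by
        rw [SetLike.mem_coe, hQ0, Submodule.mem_bot] at hzQ
        subst hzQ
        exact zero_mem Q₁)
      let T := Localization.AtPrime Q₁
      let f : T →+* Localization.AtPrime Q := IsLocalization.lift (M := Q₁.primeCompl)
        (g := algebraMap B (Localization.AtPrime Q)) fun y =>
          IsLocalization.map_units (Localization.AtPrime Q) (⟨y, hle y.2⟩ : Q.primeCompl)
      letI : Algebra T (Localization.AtPrime Q) := f.toAlgebra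
      haveI : IsScalarTower B T (Localization.AtPrime Q) := IsScalarTower.of_algebraMap_eq fun b =>
        (IsLocalization.lift_eq _ b).symm
      haveI : IsScalarTower A T (Localization.AtPrime Q) := IsScalarTower.to₁₃₄ A B _ _
      haveI : IsLocalization (Q.primeCompl.map (algebraMap B T)) (Localization.AtPrime Q) :=
        IsLocalization.isLocalization_of_submonoid_le T _ Q₁.primeCompl Q.primeCompl hle
      haveI : Module.Flat T (Localization.AtPrime Q) := IsLocalization.flat _ (Q.primeCompl.map (algebraMap B T))
      haveI : Algebra.FormallyUnramified T (Localization.AtPrime Q) :=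
        Algebra.FormallyUnramified.of_isLocalization (Q.primeCompl.map (algebraMap B T))
      exact ⟨Module.Flat.trans A T _, Algebra.FormallyUnramified.comp A T _⟩
    · let p := Q.comap (algebraMap A B)
      haveI : Q.LiesOver p := ⟨rfl⟩
      haveI : IsRegularLocalRing (Localization.AtPrime p) := H05EGA4.isRegularLocalRing_localization A p
      letI := Localization.AtPrime.algebraOfLiesOver p Q
      haveI : IsDomain (Localization.AtPrime Q) := IsLocalization.isDomain_of_atPrime _ Q
      haveI : IsIntegrallyClosed (Localization.AtPrime Q) :=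
        isIntegrallyClosed_of_isLocalization _ Q.primeCompl Q.primeCompl_le_nonZeroDivisors
      haveI : Algebra.EssFiniteType A (Localization.AtPrime Q) := Algebra.EssFiniteType.comp A B _
      haveI : Algebra.EssFiniteType (Localization.AtPrime p) (Localization.AtPrime Q) :=
        Algebra.EssFiniteType.of_comp A _ _
      have hQlt : Q < maximalIdeal B := lt_of_le_of_ne (le_maximalIdeal (Ideal.IsPrime.ne_top inferInstance)) hQ
      have hhlt : Q.height < d := hmh ▸ Ideal.height_strict_mono_of_isPrime hQlt
      obtain ⟨k, hk⟩ := ENat.ne_top_iff_exists.mp hhlt.ne_top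
      have hkd : k < d := by exact_mod_cast (hk ▸ hhlt : (k : ℕ∞) < d)
      have hk1 : 1 ≤ k := by
        by_contra hk0
        obtain rfl : k = 0 := by omega
        exact hQ0 (Ideal.height_eq_zero_iff_eq_bot.mp hk.symm)
      obtain ⟨_, _⟩ := ih k hkd (A := Localization.AtPrime p) (B := Localization.AtPrime Q)
        (by rw [IsLocalization.AtPrime.ringKrullDim_eq_height Q (Localization.AtPrime Q), ← hk]; rfl) hk1
        (fun R' _ hR' => by
          let Q' := R'.comap (algebraMap B (Localization.AtPrime Q))
          have hh : Q'.height = 1 := (IsLocalization.height_comap Q.primeCompl R').trans hR'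
          haveI : IsLocalization.AtPrime (Localization.AtPrime R') Q' :=
            IsLocalization.isLocalization_isLocalization_atPrime_isLocalization Q.primeCompl (Localization.AtPrime R') R'
          haveI : IsScalarTower A B (Localization.AtPrime R') := IsScalarTower.of_algebraMap_eq fun a => by
            rw [IsScalarTower.algebraMap_apply A (Localization.AtPrime Q) (Localization.AtPrime R'),
              IsScalarTower.algebraMap_apply A B (Localization.AtPrime Q),
              ← IsScalarTower.algebraMap_apply B (Localization.AtPrime Q) (Localization.AtPrime R')]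
          let e : Localization.AtPrime Q' ≃ₐ[A] Localization.AtPrime R' :=
            (IsLocalization.algEquiv Q'.primeCompl _ _).restrictScalars A
          obtain ⟨_, _⟩ := h1 Q' hh
          haveI : Module.Flat A (Localization.AtPrime R') := Module.Flat.of_linearEquiv e.symm.toLinearEquiv
          haveI : Algebra.FormallyUnramified A (Localization.AtPrime R') := Algebra.FormallyUnramified.of_equiv e
          exact ⟨(Module.flat_iff_of_isLocalization (Localization.AtPrime p) p.primeCompl _).mpr inferInstance,
            Algebra.FormallyUnramified.of_restrictScalars A _ _⟩)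
      haveI : Module.Flat A (Localization.AtPrime p) := IsLocalization.flat _ p.primeCompl
      haveI : Algebra.FormallyUnramified A (Localization.AtPrime p) :=
        Algebra.FormallyUnramified.of_isLocalization p.primeCompl
      exact ⟨Module.Flat.trans A (Localization.AtPrime p) _,
        Algebra.FormallyUnramified.comp A (Localization.AtPrime p) _⟩
  rcases Nat.lt_or_ge d 2 with hlt | hge
  · obtain rfl : d = 1 := by omega
    obtain ⟨_, _⟩ := h1 (maximalIdeal B) (by exact_mod_cast hmh)
    let e : B ≃ₐ[B] Localization.AtPrime (maximalIdeal B) :=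
      IsLocalization.atUnits B (maximalIdeal B).primeCompl fun x hx => not_not.mp fun h => hx ((mem_maximalIdeal _).mpr h)
    exact ⟨Module.Flat.of_linearEquiv (e.restrictScalars A).toLinearEquiv,
      Algebra.FormallyUnramified.of_equiv (e.restrictScalars A).symm⟩
  · have hdim2 : (2 : WithBot ℕ∞) ≤ ringKrullDim B := by rw [hd]; exact_mod_cast hge
    haveI := finite_residueField hdim2 hetP
    haveI := quasiFinite_of_etPunctured hetP
    have hbot : (⊥ : Ideal B) ≠ maximalIdeal B := hm.symm
    haveI := (hetP ⊥ hbot).1
    exact formallyEtale_of_quasiFinite_of_injective injective_of_flat_bot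
      (by rw [hd]; exact_mod_cast hd1) fun Q _ hQ => (h1 Q hQ).2

end Groth.Agent.H18Pur.Ram
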